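import Cfsg.Agent.ThCert.Final
import Cfsg.Agent.ThompsonRep.LowerFive
import Cfsg.Agent.ThompsonRep.LowerTwo
import Cfsg.Agent.ThompsonRep.LowerSeven
import Cfsg.Agent.ThompsonRep.Flag.Main

/-!
The presented Thompson group is at least as large as the Thompson group.
-/

set_option autoImplicit false

namespace CfsgLib.ThInvol

open CfsgLib.ThCert

/-- The lower bound from the representation of degree 248. -/
theorem th_large : ThLarge := by
  have h : 2 ^ 15 * 3 ^ 10 * (7 ^ 2 * 13) * (5 ^ 3 * 19 * 31) ∣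
      Nat.card CfsgLib.ThRep.rep.range :=
    Nat.Coprime.mul_dvd_of_dvd_of_dvd (by norm_num) (Nat.Coprime.mul_dvd_of_dvd_of_dvd (by norm_num)
      (Nat.Coprime.mul_dvd_of_dvd_of_dvd (by norm_num) CfsgLib.ThRep.LowerTwo.dvd_two
        CfsgLib.ThRep.dvd_three) CfsgLib.ThRep.dvd_seven) CfsgLib.ThRep.dvd_five
  have := finite_Th
  exact le_trans (le_of_eq (by norm_num)) ((Nat.le_of_dvd Nat.card_pos h).trans
    (Nat.card_le_card_of_surjective _ CfsgLib.ThRep.rep.rangeRestrict_surjective))

end CfsgLib.ThInvol
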