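import Cfsg.Agent.ThInvol.Count

/-!
Automorphisms of the presented Thompson group: after an inner automorphism they fix `a`, preserve
the centraliser and its extraspecial group, and act on the nine spaces by a permutation.
-/

set_option autoImplicit false
set_option Elab.async false
set_option maxRecDepth 100000

namespace CfsgLib.ThInvol

open CfsgLib.CosetEnum CfsgLib.HNCert CfsgLib.ThCert

noncomputable section

/-- The facts about the presented group used for its automorphisms. -/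
structure Full : Prop extends Model where
  card_G : Nat.card Cfsg.Spor.Th = 90745943887872000
  lfix : ∀ q : Cfsg.Spor.Th ⧸ emb.range, (∀ x ∈ [3, 4, 5, 7], g x • q = q) →
    q = ((1 : Cfsg.Spor.Th) : Cfsg.Spor.Th ⧸ emb.range)

theorem pow_le_fifteen {k : ℕ} (h : 2 ^ k ∣ 90745943887872000) : k ≤ 15 := by
  by_contra hk
  have h2 : 2 ^ 16 ∣ 90745943887872000 := (pow_dvd_pow 2 (by omega)).trans h
  omega

theorem Model.mem_qSub_of_trivial (M : Model) {k : Cfsg.Spor.Th} (hk : k ∈ cSub)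
    (h : M.toBase.chi ⟨k, hk⟩ = 1) : k ∈ qSub := by
  have h' : (⟨k, hk⟩ : cSub) ∈ M.toBase.chi.ker := h
  rw [M.ker_chi, Subgroup.mem_subgroupOf] at h'
  exact h'

theorem Base.center_qSub (B : Base) {x : Cfsg.Spor.Th} (hx : x ∈ qSub)
    (hc : ∀ y ∈ qSub, y * x = x * y) : x = 1 ∨ x = g 0 := by
  obtain ⟨v, hv, rfl⟩ := B.mem_qSub.mp hx
  have h := allR_spec 9 0 cen_all v (Nat.zero_le _) (by omega)
  rw [okCen, Bool.or_eq_true, List.any_eq_true] at h
  rcases h with h | ⟨i, hi, hn⟩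
  · have h : v ≤ 1 := Nat.le_of_ble_eq_true h
    rcases Nat.le_one_iff_eq_zero_or_eq_one.mp h with rfl | rfl
    · exact Or.inl qT_zero
    · exact Or.inr qT_one
  · exfalso
    have hi := List.mem_range.mp hi
    have e := hc _ (Subgroup.subset_closure ⟨i, hi, rfl⟩)
    rw [qT, qP, ← emb_prodw (qw_lt i), ← map_mul, ← map_mul, ← prodw_append, ← prodw_append] at e
    have := sig_eq_of_eq (app_lt (qw_lt i) (qvw_lt v)) (app_lt (qvw_lt v) (qw_lt i)) (B.inj e)
    simp [this] at hn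

theorem Model.cent_qSub (M : Model) {k : Cfsg.Spor.Th} (hk : k ∈ cSub)
    (hc : ∀ y ∈ qSub, y * k = k * y) : k = 1 ∨ k = g 0 := by
  refine M.toBase.center_qSub (M.mem_qSub_of_trivial hk ?_) hc
  rw [M.toBase.chi_eq (π := 1) ?_, inv_one]
  intro i y hy
  obtain ⟨v, hv, -, hm⟩ := id hy
  rw [mul_assoc, hc y (M.toBase.mdl_mem hv hm), inv_mul_cancel_left]
  exact hy

theorem Base.g_zero_ne (B : Base) : g 0 ≠ 1 := by
  rw [← qT_one, ← qT_zero]
  exact fun e => by simpa using B.qT_inj (by norm_num) (by norm_num) e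

theorem Model.qSub_normal (M : Model) {k y : Cfsg.Spor.Th} (hk : k ∈ cSub) (hy : y ∈ qSub) :
    k * y * k⁻¹ ∈ qSub := by
  have h : (⟨y, qSub_le hy⟩ : cSub) ∈ M.toBase.chi.ker := by
    rw [M.ker_chi]; exact Subgroup.mem_subgroupOf.mpr hy
  have h2 := (inferInstance : M.toBase.chi.ker.Normal).conj_mem _ h ⟨k, hk⟩
  rw [M.ker_chi, Subgroup.mem_subgroupOf] at h2
  exact h2

namespace Full

variable (F : Full)
include F

theorem isPGroup_sylow {S : Subgroup Cfsg.Spor.Th} (hS : Nat.card S = 2 ^ 15) :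
    ∃ P : Sylow 2 Cfsg.Spor.Th, (P : Subgroup Cfsg.Spor.Th) = S := by
  have := F.fin
  have : Fact (Nat.Prime 2) := ⟨Nat.prime_two⟩
  obtain ⟨P, hP⟩ := (IsPGroup.of_card hS).exists_le_sylow
  refine ⟨P, (Subgroup.eq_of_le_of_card_ge hP ?_).symm⟩
  obtain ⟨k, hk⟩ := IsPGroup.iff_card.mp P.isPGroup'
  have h := Subgroup.card_subgroup_dvd_card (P : Subgroup Cfsg.Spor.Th)
  rw [hk, F.card_G] at h
  rw [hk, hS]
  exact Nat.pow_le_pow_right (by norm_num) (pow_le_fifteen h)

/-- After an inner automorphism every automorphism fixes `a`. -/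
theorem exists_fix_a (φ : MulAut Cfsg.Spor.Th) :
    ∃ w : Cfsg.Spor.Th, (MulAut.conj w * φ) (g 0) = g 0 := by
  have := F.fin
  have : Fact (Nat.Prime 2) := ⟨Nat.prime_two⟩
  have hd : 2 ^ 15 ∣ Nat.card cSub := by rw [F.toModel.card_cSub]; norm_num
  obtain ⟨T, hT⟩ := Sylow.exists_subgroup_card_pow_prime 2 hd
  set Q : Subgroup cSub := qSub.subgroupOf cSub with hQ
  have hQn : Q.Normal := by rw [hQ, ← F.toModel.ker_chi]; infer_instance
  have hQ2 : IsPGroup 2 Q := IsPGroup.of_card (n := 9) (by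
    rw [hQ, Nat.card_congr (Subgroup.subgroupOfEquivOfLe qSub_le).toEquiv,
      F.toModel.toBase.card_qSub]; norm_num)
  have hQT : Q ≤ T := by
    have hsup : IsPGroup 2 (T ⊔ Q : Subgroup cSub) :=
      IsPGroup.to_sup_of_normal_right (IsPGroup.of_card hT) hQ2
    have hle : T ≤ T ⊔ Q := le_sup_left
    refine le_sup_right.trans (Subgroup.eq_of_le_of_card_ge hle ?_).ge
    obtain ⟨k, hk⟩ := IsPGroup.iff_card.mp hsup
    have h := Subgroup.card_subgroup_dvd_card (T ⊔ Q)
    rw [hk, F.toModel.card_cSub] at h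
    rw [hk, hT]
    exact Nat.pow_le_pow_right (by norm_num) (pow_le_fifteen (h.trans (by norm_num)))
  set S : Subgroup Cfsg.Spor.Th := T.map cSub.subtype with hSdef
  have hScard : Nat.card S = 2 ^ 15 := by
    rw [hSdef, Subgroup.card_map_of_injective cSub.subtype_injective, hT]
  have hQS : qSub ≤ S := fun y hy =>
    ⟨⟨y, qSub_le hy⟩, hQT (Subgroup.mem_subgroupOf.mpr hy), rfl⟩
  have hSC : S ≤ cSub := Subgroup.map_subtype_le T
  obtain ⟨P, hP⟩ := F.isPGroup_sylow hScard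
  obtain ⟨P', hP'⟩ := F.isPGroup_sylow (S := S.map φ.toMonoidHom)
    (by rw [Subgroup.card_map_of_injective φ.injective, hScard])
  obtain ⟨w, hw⟩ := MulAction.exists_smul_eq Cfsg.Spor.Th P' P
  have hmem : ∀ y ∈ S, w * φ y * w⁻¹ ∈ S := by
    intro y hy
    rw [← hP, ← hw]
    have : φ y ∈ (P' : Subgroup Cfsg.Spor.Th) := by rw [hP']; exact ⟨y, hy, rfl⟩
    exact Subgroup.smul_mem_pointwise_smul (φ y) (MulAut.conj w) _ this
  set ψ : MulAut Cfsg.Spor.Th := MulAut.conj w * φ with hψ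
  have hψS : ∀ y ∈ S, ψ y ∈ S := hmem
  have hsurj : ∀ y ∈ S, ∃ x ∈ S, ψ x = y := by
    intro y hy
    have he : S.map ψ.toMonoidHom = S := Subgroup.eq_of_le_of_card_ge
      (by rintro _ ⟨x, hx, rfl⟩; exact hψS x hx)
      (by rw [Subgroup.card_map_of_injective (f := ψ.toMonoidHom) (K := S) ψ.injective])
    rw [← he] at hy
    obtain ⟨x, hx, e⟩ := hy
    exact ⟨x, hx, e⟩
  have hcomm : ∀ y ∈ S, y * g 0 = g 0 * y := fun y hy =>
    Subgroup.mem_centralizer_singleton_iff.mp (F.toModel.toBase.cSub_le (hSC hy))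
  have hc : ∀ y ∈ S, y * ψ (g 0) = ψ (g 0) * y := by
    intro y hy
    obtain ⟨x, hx, rfl⟩ := hsurj y hy
    rw [← map_mul, ← map_mul, hcomm x hx]
  have hz : ψ (g 0) ∈ cSub := by
    rw [← F.toModel.centralizer_eq, Subgroup.mem_centralizer_singleton_iff]
    exact (hc _ (hQS F.toModel.toBase.g_zero_mem)).symm
  refine ⟨w, (F.toModel.cent_qSub hz fun y hy => hc y (hQS hy)).resolve_left fun e => ?_⟩
  exact F.toModel.toBase.g_zero_ne (ψ.injective (by rw [e, map_one]))

variable {φ : MulAut Cfsg.Spor.Th} (hφ : φ (g 0) = g 0)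
include hφ

theorem mem_cSub_iff {k : Cfsg.Spor.Th} : φ k ∈ cSub ↔ k ∈ cSub := by
  rw [← F.toModel.centralizer_eq, Subgroup.mem_centralizer_singleton_iff,
    Subgroup.mem_centralizer_singleton_iff]
  constructor
  · intro h
    apply φ.injective
    rw [map_mul, map_mul, hφ, h]
  · intro h
    rw [← hφ, ← map_mul, ← map_mul, h]

/-- The automorphism followed by the map onto the alternating group. -/
def psi : cSub →* Equiv.Perm (Fin 9) :=
  F.toModel.toBase.chi.comp
    ((φ.toMonoidHom.comp cSub.subtype).codRestrict cSub fun k => (F.mem_cSub_iff hφ).mpr k.2)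

theorem psi_apply (k : cSub) :
    F.psi hφ k = F.toModel.toBase.chi ⟨φ k, (F.mem_cSub_iff hφ).mpr k.2⟩ := rfl

theorem psi_mem (k : cSub) : F.psi hφ k ∈ alternatingGroup (Fin 9) := by
  rw [← F.toModel.toBase.range_chi]; exact ⟨_, rfl⟩

theorem psi_surj {p : Equiv.Perm (Fin 9)} (hp : p ∈ alternatingGroup (Fin 9)) :
    ∃ k : cSub, F.psi hφ k = p := by
  rw [← F.toModel.toBase.range_chi] at hp
  obtain ⟨⟨y, hy⟩, rfl⟩ := hp
  obtain ⟨k, rfl⟩ := φ.surjective y
  exact ⟨⟨k, (F.mem_cSub_iff hφ).mp hy⟩, rfl⟩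

theorem psi_qSub {k : cSub} (hk : (k : Cfsg.Spor.Th) ∈ qSub) : F.psi hφ k = 1 := by
  have := F.fin
  let ψ' : cSub →* alternatingGroup (Fin 9) := (F.psi hφ).codRestrict _ (F.psi_mem hφ)
  have hs : Function.Surjective ψ' := fun p => by
    obtain ⟨k, hk⟩ := F.psi_surj hφ p.2
    exact ⟨k, Subtype.ext hk⟩
  have hn : (qSub.subgroupOf cSub).Normal := by rw [← F.toModel.ker_chi]; infer_instance
  have := alternatingGroup.isSimpleGroup (α := Fin 9) (by simp)
  rcases (Subgroup.Normal.map hn ψ' hs).eq_bot_or_eq_top with h | h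
  · have h1 : ψ' k ∈ (⊥ : Subgroup (alternatingGroup (Fin 9))) := by
      rw [← h]; exact ⟨k, Subgroup.mem_subgroupOf.mpr hk, rfl⟩
    exact congrArg Subtype.val (Subgroup.mem_bot.mp h1)
  · exfalso
    have h1 := Subgroup.card_map_dvd (f := ψ') (H := qSub.subgroupOf cSub)
    rw [h, Subgroup.card_top, Nat.card_congr (Subgroup.subgroupOfEquivOfLe qSub_le).toEquiv,
      F.toModel.toBase.card_qSub, ← F.toModel.toBase.range_chi,
      F.toModel.toBase.card_range_chi] at h1
    omega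

theorem mem_qSub_map {y : Cfsg.Spor.Th} (hy : y ∈ qSub) : φ y ∈ qSub :=
  F.toModel.mem_qSub_of_trivial _ (F.psi_qSub hφ (k := ⟨y, qSub_le hy⟩) hy)

theorem exists_qSub_preimage {y : Cfsg.Spor.Th} (hy : y ∈ qSub) : ∃ x ∈ qSub, φ x = y := by
  have := F.fin
  have he : qSub.map φ.toMonoidHom = qSub := Subgroup.eq_of_le_of_card_ge
    (by rintro _ ⟨x, hx, rfl⟩; exact F.mem_qSub_map hφ hx)
    (by rw [Subgroup.card_map_of_injective φ.injective])
  rw [← he] at hy
  obtain ⟨x, hx, e⟩ := hy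
  exact ⟨x, hx, e⟩

/-- The permutation of the nine spaces belonging to an automorphism fixing `a`. -/
theorem exists_sigma : ∃ σ : Equiv.Perm (Fin 9), ∀ k : cSub,
    F.psi hφ k = σ * F.toModel.toBase.chi k * σ⁻¹ := by
  have := F.fin
  let χ' : cSub →* alternatingGroup (Fin 9) := F.toModel.toBase.chi.codRestrict _ fun k => by
    rw [← F.toModel.toBase.range_chi]; exact ⟨k, rfl⟩
  have hχ : Function.Surjective χ' := fun p => by
    have hp : (p : Equiv.Perm (Fin 9)) ∈ F.toModel.toBase.chi.range := by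
      rw [F.toModel.toBase.range_chi]; exact p.2
    obtain ⟨k, hk⟩ := hp
    exact ⟨k, Subtype.ext hk⟩
  let ψ' : cSub →* alternatingGroup (Fin 9) := (F.psi hφ).codRestrict _ (F.psi_mem hφ)
  have hk : χ'.ker ≤ ψ'.ker := fun k hk => by
    have h : F.toModel.toBase.chi k = 1 := congrArg Subtype.val (MonoidHom.mem_ker.mp hk)
    exact MonoidHom.mem_ker.mpr (Subtype.ext (F.psi_qSub hφ (F.toModel.mem_qSub_of_trivial k.2 h)))
  let θ : alternatingGroup (Fin 9) →* alternatingGroup (Fin 9) :=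
    χ'.liftOfSurjective hχ ⟨ψ', hk⟩
  have hθ : ∀ k, θ (χ' k) = ψ' k := fun k =>
    χ'.liftOfRightInverse_comp_apply _ (Function.rightInverse_surjInv hχ) _ k
  have hb : Function.Bijective θ := by
    refine Finite.surjective_iff_bijective.mp fun p => ?_
    obtain ⟨k, hk⟩ := F.psi_surj hφ p.2
    exact ⟨χ' k, (hθ k).trans (Subtype.ext hk)⟩
  obtain ⟨σ, hσ⟩ := AutAlt.exists_conj_of_mulEquiv (MulEquiv.ofBijective θ hb)
    (by simp) (by simp)
  refine ⟨σ, fun k => ?_⟩
  have h := hσ (χ' k)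
  rw [MulEquiv.ofBijective_apply, hθ] at h
  exact h

end Full

end

end CfsgLib.ThInvol
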