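import Cfsg.Agent.ThInvol.Word

/-!
The centralisers in `³D₄(2):3` of the involutions `a` and `e`: the first is the stabiliser of the
point `0`, the second has at most `10368` elements, and the two are not conjugate.
-/

set_option autoImplicit false
set_option Elab.async false
set_option maxRecDepth 100000

namespace CfsgLib.ThInvol

open CfsgLib.CosetEnum CfsgLib.HNCert CfsgLib.ThCert

noncomputable section

/-- The stabiliser of the point `0`. -/
def stab0 : Subgroup P := (MulAction.stabilizer (Equiv.Perm (Fin 819)) (pt 0)).comap pi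

theorem mem_stab0 {y : P} : y ∈ stab0 ↔ mv pi y (pt 0) = pt 0 := by
  rw [stab0, Subgroup.mem_comap, MulAction.mem_stabilizer_iff, mv, Equiv.Perm.smul_def,
    Equiv.Perm.inv_eq_iff_eq]
  exact eq_comm

/-- The word of a conjugate of a letter. -/
def cw (x k : ℕ) : List ℕ := wi (dec k) ++ x :: dec k

theorem cw_lt {x : ℕ} (hx : x < 9) (k : ℕ) : ∀ y ∈ cw x k, y < 9 :=
  app_lt (wi_lt (dec_lt k)) fun y hy => by
    rcases List.mem_cons.mp hy with rfl | hy
    exacts [hx, dec_lt k y hy]

theorem prodw_cw {x : ℕ} (k : ℕ) :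
    prodw pg (cw x k) = (el k)⁻¹ * pg x * el k := by
  rw [cw, prodw_append, pg_wi (dec_lt k), prodw_cons, el, mul_assoc]

theorem aConj_incr : incr (fun k => walk4 (cw 0 k) 0 40 41 42) Data.aConj 0 = true := by
  decide +kernel

theorem eConj_incr : incr (fun k => walk4 (cw 4 k) 0 40 41 42) Data.eConj 0 = true := by
  decide +kernel

theorem aConj_ends : distinct (Data.aConj.map fun k => walk (dec k) 0) 0 = true := by
  decide +kernel

theorem eConj_fix : Data.eConj.all (fun k => Nat.beq (walk (dec k) 0) 0) = true := by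
  decide +kernel

theorem aConj_cover : allR (fun i => bif Nat.blt i 819 then
    Data.aConj.any fun k => Nat.beq (walk (dec k) 0) i else true) 10 0 = true := by decide +kernel

theorem aConj_triv : Data.aConj.all (fun k =>
    bif Nat.beq (walk4 (cw 0 k) 0 40 41 42) (walk4 [0] 0 40 41 42) then
      Nat.beq (walk (dec k) 0) 0 else true) = true := by decide +kernel

theorem len_aConj : Data.aConj.length = 819 := by decide +kernel

theorem len_eConj : Data.eConj.length = 2016 := by decide +kernel

theorem comm_zero : [0, 2, 3, 4, 5, 6, 7, 8].all (fun x => same [0, x] [x, 0]) = true := by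
  decide +kernel

theorem fix_zero_a : Nat.beq (walk [0] 0) 0 = true := by decide +kernel

theorem mv_el_val (k : ℕ) : (mv pi (el k) (pt 0)).val = walk (dec k) 0 := mv_el k (by norm_num)

/-- The elements fixing the point `0` commute with `a`. -/
theorem commute_of_fix (hB : ABound) {y : P} (hy : mv pi y (pt 0) = pt 0) :
    y * pg 0 = pg 0 * y := by
  have h : Subgroup.closure (pg '' {x | x < 9 ∧ x ≠ 1}) ≤ Subgroup.centralizer {pg 0} := by
    rw [Subgroup.closure_le]
    rintro _ ⟨x, ⟨hx, hx1⟩, rfl⟩
    refine Subgroup.mem_centralizer_singleton_iff.mpr ?_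
    have hs : same [0, x] [x, 0] = true := by
      refine List.all_eq_true.mp comm_zero x ?_
      simp only [List.mem_cons, List.not_mem_nil, or_false]
      omega
    have e := eq_of_same_of hB (by simp [hx]) (by simp [hx]) hs
    simp only [prodw_cons, prodw_nil, mul_one] at e
    exact e.symm
  exact Subgroup.mem_centralizer_singleton_iff.mp (h (mem_of_fix_zero hB hy))

/-- The elements commuting with `a` fix the point `0`. -/
theorem fix_of_commute (hB : ABound) {y : P} (hy : y * pg 0 = pg 0 * y) :
    mv pi y (pt 0) = pt 0 := by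
  set i : Fin 819 := mv pi y (pt 0) with hi
  have h := allR_spec 10 0 aConj_cover i.val (Nat.zero_le _) (by omega)
  rw [show Nat.blt i.val 819 = true from Nat.ble_eq_true_of_le i.isLt, cond_true,
    List.any_eq_true] at h
  obtain ⟨k, hk, he⟩ := h
  have he : mv pi (el k) (pt 0) = i := Fin.ext (by
    rw [mv_el_val]; exact Nat.eq_of_beq_eq_true he)
  have hf : mv pi (y * (el k)⁻¹) (pt 0) = pt 0 := by
    rw [mv_mul, ← hi, ← he, mv_inv]
  have hc := commute_of_fix hB hf
  have hk' : (el k)⁻¹ * pg 0 * el k = pg 0 := by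
    have e : el k = (y * (el k)⁻¹)⁻¹ * y := by group
    have h1 : (y * (el k)⁻¹)⁻¹ * pg 0 = pg 0 * (y * (el k)⁻¹)⁻¹ :=
      (Commute.inv_left hc).eq
    have h2 : el k * pg 0 = pg 0 * el k := by
      rw [e, mul_assoc, hy, ← mul_assoc, h1, mul_assoc]
    rw [mul_assoc, ← h2, inv_mul_cancel_left]
  have hs : walk4 (cw 0 k) 0 40 41 42 = walk4 [0] 0 40 41 42 :=
    sig_eq_of_eq (cw_lt (by norm_num) k) (by simp) (by
      rw [prodw_cw, hk', prodw_cons, prodw_nil, mul_one])
  have ht := List.all_eq_true.mp aConj_triv k hk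
  rw [show Nat.beq (walk4 (cw 0 k) 0 40 41 42) (walk4 [0] 0 40 41 42) = true from by rw [hs]; exact Nat.beq_refl _,
    cond_true] at ht
  rw [← he]
  exact Fin.ext (by rw [mv_el_val, Nat.eq_of_beq_eq_true ht, pt_val (by norm_num)])

/-- The centraliser of `a` in `P` is the stabiliser of `0`. -/
theorem centralizer_zero (hB : ABound) : Subgroup.centralizer {pg 0} = stab0 := by
  ext y
  rw [Subgroup.mem_centralizer_singleton_iff, mem_stab0]
  exact ⟨fun h => fix_of_commute hB h, fun h => commute_of_fix hB h⟩

/-- A list of distinct cosets bounds a subgroup. -/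
theorem card_mul_le [Finite P] {H S : Subgroup P} (l : List P) (hl : l.Nodup)
    (hin : ∀ k ∈ l, k ∈ S) (hHS : H ≤ S)
    (hinj : ∀ k ∈ l, ∀ k' ∈ l, k * k'⁻¹ ∈ H → k = k') :
    Nat.card H * l.length ≤ Nat.card S := by
  classical
  let f : H × Fin l.length → S := fun p =>
    ⟨(p.1 : P) * l.get p.2, mul_mem (hHS p.1.2) (hin _ (List.get_mem l p.2))⟩
  have hf : Function.Injective f := by
    rintro ⟨a, i⟩ ⟨b, j⟩ e
    have e : (a : P) * l.get i = b * l.get j := congrArg Subtype.val e
    have hk : l.get i = l.get j := by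
      refine hinj _ (List.get_mem l i) _ (List.get_mem l j) ?_
      have : l.get i * (l.get j)⁻¹ = (a : P)⁻¹ * b := by
        rw [eq_inv_mul_iff_mul_eq, ← mul_assoc, e, mul_inv_cancel_right]
      rw [this]
      exact mul_mem (inv_mem a.2) b.2
    rw [hk] at e
    exact Prod.ext (Subtype.ext (mul_right_cancel e)) (List.nodup_iff_injective_get.mp hl hk)
  have h := Nat.card_le_card_of_injective f hf
  rwa [Nat.card_prod, Nat.card_fin] at h

theorem el_nodup {l : List ℕ} {x : ℕ} (hx : x < 9)
    (h : (l.map fun k => walk4 (cw x k) 0 40 41 42).Nodup) : (l.map el).Nodup := by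
  refine List.Nodup.map_on ?_ (List.Nodup.of_map _ h)
  intro a ha b hb e
  refine List.inj_on_of_nodup_map h ha hb (sig_eq_of_eq (cw_lt hx a) (cw_lt hx b) ?_)
  rw [prodw_cw, prodw_cw, e]

theorem card_stab0_le (hB : ABound) : Nat.card stab0 * 819 ≤ Nat.card P := by
  have := hB.1
  have hn := (distinct_spec _ _ aConj_ends).1
  have h := card_mul_le (H := stab0) (S := ⊤) (Data.aConj.map el)
    (el_nodup (x := 0) (by norm_num) (incr_spec _ _ _ aConj_incr).1) (fun _ _ => Subgroup.mem_top _)
    le_top (by
      intro k hk k' hk' he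
      obtain ⟨a, ha, rfl⟩ := List.mem_map.mp hk
      obtain ⟨b, hb, rfl⟩ := List.mem_map.mp hk'
      have e := mem_stab0.mp he
      rw [mv_mul] at e
      have e2 : mv pi (el a) (pt 0) = mv pi (el b) (pt 0) := by
        have e3 := congrArg (mv pi (el b)) e
        rwa [← mv_mul, inv_mul_cancel, mv_one] at e3
      have e4 : walk (dec a) 0 = walk (dec b) 0 := by rw [← mv_el_val, ← mv_el_val, e2]
      exact congrArg el (List.inj_on_of_nodup_map hn ha hb e4))
  rwa [List.length_map, len_aConj, Subgroup.card_top] at h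

theorem card_cent_zero_le (hB : ABound) : Nat.card (Subgroup.centralizer {pg 0}) ≤ 774144 := by
  rw [centralizer_zero hB]
  have h1 := card_stab0_le hB
  have h2 := hB.2
  omega

/-- The points fixed by a letter. -/
def fixList (x : ℕ) : List ℕ := (List.range 819).filter fun i => Nat.beq (walk [x] i) i

theorem len_fix : (fixList 0).length = 19 ∧ (fixList 4).length = 27 := by decide +kernel

theorem card_fix {x : ℕ} (hx : x < 9) :
    Nat.card {i : Fin 819 // mv pi (pg x) i = i} = (fixList x).length := by
  classical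
  have hn : (fixList x).Nodup := (List.nodup_range).filter _
  rw [← List.toFinset_card_of_nodup hn, Nat.card_eq_fintype_card, Fintype.card_subtype]
  refine Finset.card_bij (fun i _ => i.val) ?_ (fun a _ b _ h => Fin.ext h) ?_
  · intro i hi
    rw [Finset.mem_filter] at hi
    rw [List.mem_toFinset, fixList, List.mem_filter]
    refine ⟨List.mem_range.mpr i.isLt, ?_⟩
    have h : walk [x] i.val = i.val := by
      rw [← mv_prodw (w := [x]) (by simp [hx]) i, prodw_cons, prodw_nil, mul_one, hi.2]
    rw [h]
    exact Nat.beq_refl _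
  · intro b hb
    rw [List.mem_toFinset, fixList, List.mem_filter, List.mem_range] at hb
    refine ⟨⟨b, hb.1⟩, ?_, rfl⟩
    rw [Finset.mem_filter]
    refine ⟨Finset.mem_univ _, Fin.ext ?_⟩
    rw [show pg x = prodw pg [x] by rw [prodw_cons, prodw_nil, mul_one],
      mv_prodw (by simp [hx])]
    exact Nat.eq_of_beq_eq_true hb.2

/-- `a` and `e` are not conjugate in `P`. -/
theorem not_conj (y : P) : y⁻¹ * pg 0 * y ≠ pg 4 := by
  intro h
  have h1 := card_fix (x := 0) (by norm_num)
  have h2 := card_fix (x := 4) (by norm_num)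
  have e : Nat.card {i : Fin 819 // mv pi (pg 0) i = i} =
      Nat.card {i : Fin 819 // mv pi (pg 4) i = i} := by
    refine Nat.card_congr (((pi y).symm : Fin 819 ≃ Fin 819).subtypeEquiv fun i => ?_)
    rw [← h]
    show mv pi (pg 0) i = i ↔ mv pi (y⁻¹ * pg 0 * y) (mv pi y i) = mv pi y i
    rw [mv_mul, mv_mul, mv_inv]
    exact ⟨fun e => by rw [e], fun e => mv_inj pi y e⟩
  rw [h1, h2, len_fix.1, len_fix.2] at e
  omega

theorem card_cent_four_le (hB : ABound) : Nat.card (Subgroup.centralizer {pg 4}) ≤ 10368 := by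
  classical
  have := hB.1
  set C : Subgroup P := Subgroup.centralizer {pg 4} with hC
  have h1 : Nat.card (C ⊓ stab0 : Subgroup P) * 2016 ≤ Nat.card stab0 := by
    have h := card_mul_le (H := C ⊓ stab0) (S := stab0) (Data.eConj.map el)
      (el_nodup (x := 4) (by norm_num) (incr_spec _ _ _ eConj_incr).1) (by
        intro k hk
        obtain ⟨a, ha, rfl⟩ := List.mem_map.mp hk
        refine mem_stab0.mpr (Fin.ext ?_)
        rw [mv_el_val, Nat.eq_of_beq_eq_true (List.all_eq_true.mp eConj_fix a ha),
          pt_val (by norm_num)]) inf_le_right (by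
        intro k hk k' hk' he
        obtain ⟨a, ha, rfl⟩ := List.mem_map.mp hk
        obtain ⟨b, hb, rfl⟩ := List.mem_map.mp hk'
        have e := Subgroup.mem_centralizer_singleton_iff.mp he.1
        refine congrArg el (List.inj_on_of_nodup_map (incr_spec _ _ _ eConj_incr).1 ha hb
          (sig_eq_of_eq (cw_lt (by norm_num) a) (cw_lt (by norm_num) b) ?_))
        rw [prodw_cw, prodw_cw]
        calc (el a)⁻¹ * pg 4 * el a
            = (el a)⁻¹ * (pg 4 * (el a * (el b)⁻¹)) * el b := by group
          _ = (el a)⁻¹ * (el a * (el b)⁻¹ * pg 4) * el b := by rw [e]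
          _ = (el b)⁻¹ * pg 4 * el b := by group)
    rwa [List.length_map, len_eConj] at h
  set K : Subgroup C := (C ⊓ stab0).subgroupOf C with hK
  have h2 : K.index ≤ 27 := by
    rw [← len_fix.2, ← card_fix (by norm_num), Subgroup.index_eq_card]
    have hk : ∀ a b : C, (QuotientGroup.leftRel K) a b →
        pi (a : P) (pt 0) = pi (b : P) (pt 0) := by
      intro a b hab
      rw [QuotientGroup.leftRel_apply, hK, Subgroup.mem_subgroupOf] at hab
      have h : pi ((a⁻¹ * b : C) : P) (pt 0) = pt 0 := hab.2
      rw [Subgroup.coe_mul, Subgroup.coe_inv, map_mul, map_inv, Equiv.Perm.mul_apply,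
        Equiv.Perm.inv_eq_iff_eq] at h
      exact h.symm
    let f : C ⧸ K → {i : Fin 819 // mv pi (pg 4) i = i} := Quotient.lift
      (fun a => ⟨pi (a : P) (pt 0), by
        have ha := Subgroup.mem_centralizer_singleton_iff.mp a.2
        have he : pi (pg 4) (pt 0) = pt 0 := by
          have h := congrArg Fin.val (show mv pi (pg 4) (pt 0) = mv pi (pg 4) (pt 0) from rfl)
          clear h
          have h0 : mv pi (pg 4) (pt 0) = pt 0 := Fin.ext (by
            rw [show pg 4 = prodw pg [4] by rw [prodw_cons, prodw_nil, mul_one],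
              mv_prodw (by simp), pt_val (by norm_num)]
            exact Nat.eq_of_beq_eq_true (show Nat.beq (walk [4] 0) 0 = true by decide +kernel))
          rw [mv, Equiv.Perm.inv_eq_iff_eq] at h0
          exact h0.symm
        rw [mv, Equiv.Perm.inv_eq_iff_eq, ← Equiv.Perm.mul_apply, ← map_mul, ← ha, map_mul,
          Equiv.Perm.mul_apply, he]⟩)
      fun a b hab => Subtype.ext (hk a b hab)
    refine Nat.card_le_card_of_injective f ?_
    intro x y
    induction x using Quotient.inductionOn with
    | _ a =>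
      induction y using Quotient.inductionOn with
      | _ b =>
        intro e
        have e : pi (a : P) (pt 0) = pi (b : P) (pt 0) := congrArg Subtype.val e
        refine Quotient.sound ?_
        show (QuotientGroup.leftRel K) a b
        rw [QuotientGroup.leftRel_apply, hK, Subgroup.mem_subgroupOf]
        refine ⟨(a⁻¹ * b).2, ?_⟩
        show pi ((a⁻¹ * b : C) : P) (pt 0) = pt 0
        rw [Subgroup.coe_mul, Subgroup.coe_inv, map_mul, map_inv, Equiv.Perm.mul_apply,
          Equiv.Perm.inv_eq_iff_eq, e]
  have h3 := K.index_mul_card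
  rw [hK, Nat.card_congr (Subgroup.subgroupOfEquivOfLe inf_le_left).toEquiv] at h3
  have h4 := card_stab0_le hB
  have h5 := hB.2
  rw [← h3]
  calc _ ≤ 27 * Nat.card (C ⊓ stab0 : Subgroup P) := Nat.mul_le_mul_right _ h2
    _ ≤ 10368 := by omega

end

end CfsgLib.ThInvol
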