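import Cfsg.Agent.ThCert.Cert
import Cfsg.Agent.ThInvol.ACent
import Cfsg.Agent.ThInvol.OrbitData

/-!
Membership in the orbit stabilisers by sifting along their chains, the numbers of conjugates of `a`
in them, and a lower bound for `⟨d, e, s, t⟩`.
-/

set_option autoImplicit false
set_option Elab.async false
set_option maxRecDepth 100000

namespace CfsgLib.ThInvol

open CfsgLib.CosetEnum CfsgLib.HNCert CfsgLib.ThCert

noncomputable section

/-- The first position of a number. -/
def idxOf (p : ℕ) (l : List ℕ) : ℕ :=
  List.rec 0 (fun v _ ih => bif Nat.beq v p then 0 else Nat.succ ih) l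

theorem idxOf_getElem : ∀ (l : List ℕ), l.Nodup → ∀ (i : ℕ) (h : i < l.length),
    idxOf l[i] l = i
  | [], _, i, h => absurd h (Nat.not_lt_zero i)
  | v :: l, hn, i, h => by
    obtain ⟨hv, hl⟩ := List.nodup_cons.mp hn
    show (bif Nat.beq v (v :: l)[i] then 0 else Nat.succ (idxOf (v :: l)[i] l)) = i
    cases i with
    | zero => rw [List.getElem_cons_zero, Nat.beq_refl, cond_true]
    | succ i =>
      have hi : i < l.length := Nat.lt_of_succ_lt_succ h
      rw [List.getElem_cons_succ]
      cases hb : Nat.beq v l[i]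
      · rw [cond_false, idxOf_getElem l hl i hi]
      · exact absurd (Nat.eq_of_beq_eq_true hb ▸ List.getElem_mem hi) hv

/-- The chain of an orbit stabiliser in `P`. -/
abbrev sC (j : ℕ) (C : List (ℕ × List (List ℕ))) : List (Fin 819 × List P) :=
  C.map fun e => (pt e.1, e.2.map fun L => prodw pg (genWord clo j L))

theorem size_sC (j : ℕ) : ∀ C : List (ℕ × List (List ℕ)),
    size (sC j C) = (C.map fun e => e.2.length).prod
  | [] => rfl
  | e :: C => by
    show size (sC j C) * _ = _
    rw [size_sC j C, List.length_map, List.map_cons, List.prod_cons, mul_comm]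

/-- The listed endpoints are those of the chain. -/
def okEnds (j : ℕ) : List (ℕ × List (List ℕ)) → List (List ℕ) → Bool
  | [], _ => true
  | (b, L) :: C, E => decide (L.map (fun u => walk (genWord clo j u) b) = E.headD []) &&
      okEnds j C E.tail

/-- Whether a word sifts to the identity. -/
def sift (j : ℕ) : List (ℕ × List (List ℕ)) → List (List ℕ) → List ℕ → Bool
  | [], _, w => same w []
  | (b, L) :: C, E, w => force (idxOf (walk w b) (E.headD [])) fun k =>
      sift j C E.tail (w ++ wi (genWord clo j (L.getD k [])))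

theorem ends_all : ∀ j < 11, okEnds j (clo.sChain j) (Data.endList.getD j []) = true := by
  decide +kernel

theorem sift_true (H : Checked uPairs cert clo tW) {j : ℕ} (hj : j < clo.nS) :
    ∀ (C : List (ℕ × List (List ℕ))) (E : List (List ℕ)), okS clo j C = true →
      okEnds j C E = true → ∀ w : List ℕ, (∀ x ∈ w, x < 9) →
        ∀ i : Idx (sC j C), elt (sC j C) i = prodw pg w → sift j C E w = true
  | [], E, _, _, w, hw, i, h => by
    show same w [] = true
    rw [same, sig_eq_of_eq hw (v := []) (by simp) (by rw [prodw_nil]; exact h.symm)]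
    exact Nat.beq_refl _
  | (b, L) :: C, E, hS, hE, w, hw, i, h => by
    obtain ⟨⟨hn, hf, -⟩, -⟩ := ok_sC H hj _ hS
    simp only [okS, Bool.and_eq_true, Nat.blt_eq, decide_eq_true_eq] at hS
    obtain ⟨hb, -, hd, -, hC⟩ := hS
    simp only [okEnds, Bool.and_eq_true, decide_eq_true_eq] at hE
    obtain ⟨hE, hE'⟩ := hE
    have hlen : i.2.val < L.length := lt_of_lt_of_eq i.2.isLt (List.length_map _)
    set l := L[i.2.val] with hl
    have hget : (L.map fun u => prodw pg (genWord clo j u)).get i.2 =
        prodw pg (genWord clo j l) := by simp [hl]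
    change elt (sC j C) i.1 * (L.map fun u => prodw pg (genWord clo j u)).get i.2 = _ at h
    rw [hget] at h
    have hwalk : walk w b = walk (genWord clo j l) b := by
      have e : mv pi (prodw pg w) (pt b) = mv pi (prodw pg (genWord clo j l)) (pt b) := by
        rw [← h, mv_mul, elt_fix (sC j C) hf i.1]
      have e := congrArg Fin.val e
      rwa [mv_prodw hw, mv_prodw (genWord_lt j l), pt_val hb] at e
    have hidx : idxOf (walk w b) (E.headD []) = i.2.val := by
      rw [← hE, hwalk, hl]
      have := idxOf_getElem _ hd i.2.val (lt_of_lt_of_eq hlen (List.length_map _).symm)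
      rwa [List.getElem_map] at this
    show force (idxOf (walk w b) (E.headD [])) (fun k =>
      sift j C E.tail (w ++ wi (genWord clo j (L.getD k [])))) = true
    rw [force_eq, hidx, List.getD_eq_getElem _ _ hlen]
    refine sift_true H hj C E.tail hC hE' _ (app_lt hw (wi_lt (genWord_lt j _))) i.1 ?_
    rw [prodw_append, pg_wi (genWord_lt j _), ← h, mul_inv_cancel_right]

/-- The conjugates of `a` in an orbit stabiliser. -/
def aIn (j : ℕ) : List ℕ :=
  Data.aConj.filter fun k => sift j (clo.sChain j) (Data.endList.getD j []) (cw 0 k)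

theorem len_aIn : ∀ j < 11,
    (aIn j).length = [819, 51, 0, 0, 0, 3, 0, 19, 0, 0, 0].getD j 0 := by
  decide +kernel

/-- The subgroup `⟨d, e, s, t⟩`. -/
def lGrp : Subgroup P := Subgroup.closure (pg '' {x | x ∈ [3, 4, 5, 7]})

theorem lChain_check : okC Data.lChain = true ∧
    (Data.lChain.map fun e => e.2.length).prod = 1512 ∧
    Data.lChain.all (fun e => e.2.all fun u =>
      (dec u).all fun x => [3, 4, 5, 6, 7, 8].contains x) = true := by decide +kernel

theorem pg_mem_lGrp {x : ℕ} (hx : x ∈ [3, 4, 5, 7]) : pg x ∈ lGrp :=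
  Subgroup.subset_closure ⟨x, hx, rfl⟩

theorem le_card_lGrp (hB : ABound) : 1512 ≤ Nat.card lGrp := by
  have := hB.1
  obtain ⟨h1, h2, h3⟩ := lChain_check
  have h := size_le (W := lGrp) (ok_of_okC _ h1) (fun e he u hu => by
    obtain ⟨e', he', rfl⟩ := List.mem_map.mp he
    obtain ⟨u', hu', rfl⟩ := List.mem_map.mp hu
    have ha := List.all_eq_true.mp (List.all_eq_true.mp h3 e' he') u' hu'
    simp only [List.all_eq_true, List.contains_iff_mem, List.mem_cons, List.not_mem_nil,
      or_false] at ha
    have key : ∀ x : ℕ, x = 3 ∨ x = 4 ∨ x = 5 ∨ x = 6 ∨ x = 7 ∨ x = 8 → pg x ∈ lGrp := by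
      rintro x (rfl | rfl | rfl | rfl | rfl | rfl)
      · exact pg_mem_lGrp (by decide)
      · exact pg_mem_lGrp (by decide)
      · exact pg_mem_lGrp (by decide)
      · rw [show (6 : ℕ) = iv 5 from rfl, pg_iv' (by norm_num)]
        exact inv_mem (pg_mem_lGrp (by decide))
      · exact pg_mem_lGrp (by decide)
      · rw [show (8 : ℕ) = iv 7 from rfl, pg_iv' (by norm_num)]
        exact inv_mem (pg_mem_lGrp (by decide))
    have hw : ∀ w : List ℕ, (∀ x ∈ w, pg x ∈ lGrp) → prodw pg w ∈ lGrp := by
      intro w
      induction w with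
      | nil => intro _; rw [prodw_nil]; exact one_mem _
      | cons y w ih =>
        intro h
        rw [prodw_cons]
        exact mul_mem (h y List.mem_cons_self) (ih fun x hx => h x (List.mem_cons_of_mem _ hx))
    exact hw _ fun x hx => key x (ha x hx))
  rwa [size_toC, h2] at h

theorem s_seven : same [5, 5, 5, 5, 5, 5, 5] [] = true ∧ same [5] [] = false := by decide +kernel

theorem seven_dvd_lGrp (hB : ABound) : 7 ∣ Nat.card lGrp := by
  have : Fact (Nat.Prime 7) := ⟨by norm_num⟩
  have e := eq_of_same_of hB (by simp) (by simp) s_seven.1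
  have hne : pg 5 ≠ 1 := by
    intro h
    have e1 : walk4 [5] 0 40 41 42 = walk4 [] 0 40 41 42 :=
      sig_eq_of_eq (by simp) (by simp) (by rw [prodw_cons, prodw_nil, mul_one]; exact h)
    have h2 := s_seven.2
    rw [same, e1, Nat.beq_refl] at h2
    exact Bool.noConfusion h2
  have ho : orderOf (pg 5) = 7 := orderOf_eq_prime (by
    simpa [prodw_cons, prodw_nil, pow_succ, mul_assoc] using e) hne
  have h := Subgroup.orderOf_dvd_natCard lGrp (pg_mem_lGrp (x := 5) (by decide))
  rwa [ho] at h

end

end CfsgLib.ThInvol
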