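import Cfsg.Agent.ThCert.Final
import Cfsg.Agent.ThInvol.AutA
import Cfsg.Agent.ThInvol.Sift

/-!
The facts on the suborbits of the cosets of the image of `P` used for the centraliser of `a` and
the automorphisms, from the order of the presented group.
-/

set_option autoImplicit false
set_option Elab.async false
set_option maxRecDepth 100000

namespace CfsgLib.ThInvol

open CfsgLib.CosetEnum CfsgLib.HNCert CfsgLib.ThCert

noncomputable section

theorem card_subtype_le_sigma {ι β : Type*} {α : ι → Type*} [Finite (Σ j, α j)]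
    (c : (Σ j, α j) → β) (hc : Function.Surjective c) (p : β → Prop) :
    Nat.card {q // p q} ≤ Nat.card (Σ j, {x : α j // p (c ⟨j, x⟩)}) := by
  have : Finite (Σ j, {x : α j // p (c ⟨j, x⟩)}) :=
    Finite.of_injective (fun z => (⟨z.1, z.2.1⟩ : Σ j, α j)) (by
      rintro ⟨i, x, hx⟩ ⟨k, y, hy⟩ e
      obtain ⟨rfl, e⟩ := Sigma.mk.inj_iff.mp e
      cases eq_of_heq e
      rfl)
  choose f hf using hc
  refine Nat.card_le_card_of_injective
    (fun q => ⟨(f q.1).1, ⟨(f q.1).2, by rw [Sigma.eta, hf]; exact q.2⟩⟩) ?_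
  intro a b e
  have := congrArg (fun z : Σ j, {x : α j // p (c ⟨j, x⟩)} => c ⟨z.1, z.2.1⟩) e
  simp only [Sigma.eta, hf] at this
  exact Subtype.ext this

theorem fixed_arith (T C a z N M : ℕ) (hc : z * C = N) (h : T * C ≤ M * a) :
    T * N ≤ M * (a * z) := by
  rw [← hc, show T * (z * C) = z * (T * C) by ring, show M * (a * z) = z * (M * a) by ring]
  exact Nat.mul_le_mul_left _ h

theorem sum_arith {n : ℕ} (T A : Fin n → ℕ) (h : ∀ j, T j * 634023936 ≤ 774144 * A j)
    (hA : ∑ j, A j = 819 * 10200) : ∑ j, T j ≤ 10200 := by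
  have h3 := Finset.sum_le_sum (s := (Finset.univ : Finset (Fin n))) fun j _ => h j
  rw [← Finset.sum_mul, ← Finset.mul_sum, hA] at h3
  exact Nat.le_of_mul_le_mul_right (h3.trans_eq (by norm_num)) (by norm_num)

/-- The numbers of conjugates of `a` in the orbit stabilisers. -/
def aInNum : List ℕ := [819, 51, 0, 0, 0, 3, 0, 19, 0, 0, 0]

theorem aInNum_sum : ∑ j : Fin clo.nS, aInNum.getD j.val 0 * clo.sSize j.val = 819 * 10200 := by
  decide +kernel

theorem sum_aIn_size :
    ∑ j : Fin clo.nS, (aIn j.val).length * clo.sSize j.val = 819 * 10200 :=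
  (Finset.sum_congr rfl fun j _ => congrArg₂ HMul.hMul
    (len_aIn j.val (lt_of_lt_of_eq j.isLt clo_nS)) rfl).trans aInNum_sum

variable (hL : ThLarge)
include hL

theorem index_SS {j : ℕ} (hj : j < clo.nS) : (SS cert clo j).index = clo.sSize j :=
  (th_exact hL).2.2.2.2 ⟨j, hj⟩

theorem card_SS {j : ℕ} (hj : j < clo.nS) :
    clo.sSize j * Nat.card (SS cert clo j) = 634023936 := by
  rw [← index_SS hL hj, Subgroup.index_mul_card, card_P_of aBound]

/-- The elements of an orbit stabiliser sift. -/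
theorem sift_of_mem {j : ℕ} (hj : j < clo.nS) {w : List ℕ} (hw : ∀ x ∈ w, x < 9)
    (h : prodw pg w ∈ SS cert clo j) :
    sift j (clo.sChain j) (Data.endList.getD j []) w = true := by
  have := aBound.1
  have ho := checked.orb j hj
  simp only [okOrb, Bool.and_eq_true] at ho
  obtain ⟨-, hS, hz⟩ := ho
  obtain ⟨h1, h2⟩ := ok_sC checked hj _ hS
  have hc := card_SS hL hj
  have hz := Nat.eq_of_beq_eq_true hz
  rw [← size_sC j] at hz
  have hpos : 0 < clo.sSize j := by
    rcases Nat.eq_zero_or_pos (clo.sSize j) with e | e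
    · rw [e, zero_mul] at hc; omega
    · exact e
  have heq : Nat.card (SS cert clo j) = size (sC j (clo.sChain j)) :=
    Nat.eq_of_mul_eq_mul_left hpos (hc.trans hz.symm)
  obtain ⟨i, hi⟩ := exists_elt (W := SS cert clo j) h1 (fun e he u hu => by
    obtain ⟨e', he', rfl⟩ := List.mem_map.mp he
    obtain ⟨u', hu', rfl⟩ := List.mem_map.mp hu
    exact h2 e' he' u' hu') heq.le h
  exact sift_true checked hj _ _ hS
    (ends_all j (lt_of_lt_of_eq hj clo_nS)) w hw i hi

omit hL in
theorem smul_F_iff {j x : ℕ} (hx : x < 9) (h : P) :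
    g x • F cert clo j h = F cert clo j h ↔ h * pg x * h⁻¹ ∈ SS cert clo j := by
  rw [← inv_inv (g x), F, smul_Q, Q_eq, ← inv_mem_iff (x := h * pg x * h⁻¹), mem_SS,
    ← emb_pg hx]
  simp only [map_mul, map_inv, mul_inv_rev, inv_inv, mul_assoc]

/-- The cosets of an orbit stabiliser giving cosets fixed by `a`. -/
abbrev Fixed (j : Fin clo.nS) : Type :=
  {x : P ⧸ SS cert clo j.val // g 0 • cover cert clo ⟨j, x⟩ = cover cert clo ⟨j, x⟩}

theorem card_fixed_le (j : Fin clo.nS) :
    Nat.card (Fixed j) * Nat.card (SS cert clo j.val) ≤ 774144 * (aIn j.val).length := by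
  have := aBound.1
  set S : Subgroup P := SS cert clo j.val with hS
  have key : ∀ p : Fixed j × S, ∃ a : stab0 × Fin (aIn j.val).length,
      (p.1.1.out * (p.2 : P)) = a.1 * el ((aIn j.val).get a.2) := by
    rintro ⟨⟨x, hx⟩, ⟨s, hs⟩⟩
    rw [cover, smul_F_iff (by norm_num), inv_inv] at hx
    set y : P := x.out * s with hy
    have hy' : y⁻¹ * pg 0 * y ∈ S := by
      have : y⁻¹ * pg 0 * y = s⁻¹ * (x.out⁻¹ * pg 0 * x.out) * s := by rw [hy]; group
      rw [this]
      exact mul_mem (mul_mem (inv_mem hs) hx) hs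
    set i : Fin 819 := mv pi y (pt 0) with hi
    have h := allR_spec 10 0 aConj_cover i.val (Nat.zero_le _) (by omega)
    rw [show Nat.blt i.val 819 = true from Nat.ble_eq_true_of_le i.isLt, cond_true,
      List.any_eq_true] at h
    obtain ⟨k, hk, he⟩ := h
    have he : mv pi (el k) (pt 0) = i := Fin.ext (by
      rw [mv_el_val]; exact Nat.eq_of_beq_eq_true he)
    have hf : mv pi (y * (el k)⁻¹) (pt 0) = pt 0 := by
      rw [mv_mul, ← hi, ← he, mv_inv]
    have hc := commute_of_fix aBound hf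
    have e : y⁻¹ * pg 0 * y = prodw pg (cw 0 k) := by
      rw [prodw_cw]
      calc y⁻¹ * pg 0 * y = (el k)⁻¹ * ((y * (el k)⁻¹)⁻¹ * (pg 0 * (y * (el k)⁻¹))) * el k := by
            group
        _ = (el k)⁻¹ * ((y * (el k)⁻¹)⁻¹ * (y * (el k)⁻¹ * pg 0)) * el k := by rw [hc]
        _ = (el k)⁻¹ * pg 0 * el k := by group
    rw [e] at hy'
    have hk' : k ∈ aIn j.val :=
      List.mem_filter.mpr ⟨hk, sift_of_mem hL j.isLt (cw_lt (by norm_num) k) hy'⟩
    obtain ⟨n, hn⟩ := List.get_of_mem hk'
    exact ⟨(⟨y * (el k)⁻¹, mem_stab0.mpr hf⟩, n), by rw [hn, inv_mul_cancel_right]⟩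
  have h := Nat.card_le_card_of_injective
    (fun p : Fixed j × S => (key p).choose) (fun p q e => by
      have hp := (key p).choose_spec
      have hq := (key q).choose_spec
      change (key p).choose = (key q).choose at e
      rw [e] at hp
      have e2 := hp.trans hq.symm
      have hmk : ∀ r : Fixed j × S, ((r.1.1.out * (r.2 : P) : P) : P ⧸ S) = r.1.1 := fun r => by
        rw [QuotientGroup.mk_mul_of_mem _ r.2.2, QuotientGroup.out_eq']
      have e3 : p.1 = q.1 := Subtype.ext (by rw [← hmk p, ← hmk q, e2])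
      rw [e3] at e2
      exact Prod.ext e3 (Subtype.ext (mul_left_cancel e2)))
  rw [Nat.card_prod, Nat.card_prod, Nat.card_fin] at h
  refine h.trans (Nat.mul_le_mul_right _ ?_)
  have := card_cent_zero_le aBound
  rwa [centralizer_zero aBound] at this

theorem card_fixed_mul_le (j : Fin clo.nS) :
    Nat.card (Fixed j) * 634023936 ≤ 774144 * ((aIn j.val).length * clo.sSize j.val) :=
  fixed_arith _ _ _ _ _ _ (card_SS hL j.isLt) (card_fixed_le hL j)

theorem fix_le :
    Nat.card {q : Cfsg.Spor.Th ⧸ KH // g 0 • q = q} ≤ 10200 := by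
  have := aBound.1
  have h1 : Nat.card {q : Cfsg.Spor.Th ⧸ KH // g 0 • q = q} ≤
      Nat.card (Σ j : Fin clo.nS, Fixed j) :=
    card_subtype_le_sigma (cover cert clo) (cover_surjective checked) fun q => g 0 • q = q
  exact h1.trans (Nat.card_sigma.trans_le
    (sum_arith _ _ (card_fixed_mul_le hL) sum_aIn_size))

omit hL in
theorem orbit_orders : ∀ j < 11, j = 0 ∨
    Nat.gcd (634023936 / clo.sSize j) 92897280 < 1512 ∨
    ¬ 7 ∣ 634023936 / clo.sSize j := by decide +kernel

theorem toBase : Base where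
  bound := aBound
  pairs_lt := conj_ok.lt
  u_conj := conj_ok.conj
  inj := (th_exact hL).2.2.1
  fin := finite_Th

theorem toModel : Model := { toBase hL with fix_le := fix_le hL }

theorem lfix (q : Cfsg.Spor.Th ⧸ KH) (hq : ∀ x ∈ [3, 4, 5, 7], g x • q = q) :
    q = ((1 : Cfsg.Spor.Th) : Cfsg.Spor.Th ⧸ KH) := by
  have := aBound.1
  obtain ⟨⟨j, c⟩, rfl⟩ := cover_surjective checked q
  set h : P := (c.out)⁻¹ with hh
  have hsub : lGrp ≤ (SS cert clo j.val).comap (MulAut.conj h).toMonoidHom := by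
    rw [lGrp, Subgroup.closure_le]
    rintro _ ⟨x, hx, rfl⟩
    have hx9 : x < 9 := by
      simp only [Set.mem_ofPred_eq, List.mem_cons, List.not_mem_nil, or_false] at hx; omega
    exact (smul_F_iff hx9 h).mp (hq x hx)
  have hn : Nat.card lGrp ∣ Nat.card (SS cert clo j.val) := by
    rw [← Subgroup.card_map_of_injective (K := lGrp) (f := (MulAut.conj h).toMonoidHom)
      (MulAut.conj h).injective]
    exact Subgroup.card_dvd_of_le (Subgroup.map_le_iff_le_comap.mpr hsub)
  have hC : Nat.card lGrp ∣ 92897280 := by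
    rw [← Subgroup.card_map_of_injective (K := lGrp) (th_exact hL).2.2.1,
      ← (toModel hL).card_cSub]
    refine Subgroup.card_dvd_of_le (Subgroup.map_le_iff_le_comap.mpr ?_)
    rw [lGrp, Subgroup.closure_le]
    rintro _ ⟨x, hx, rfl⟩
    simp only [Set.mem_ofPred_eq, List.mem_cons, List.not_mem_nil, or_false] at hx
    show emb (pg x) ∈ cSub
    rw [emb_pg (by omega)]
    exact g_mem (by simp only [cLetters, List.mem_cons, List.not_mem_nil, or_false]; omega)
  have hge := le_card_lGrp aBound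
  have hseven := seven_dvd_lGrp aBound
  have hpos : 0 < clo.sSize j.val := by
    rcases Nat.eq_zero_or_pos (clo.sSize j.val) with e | e
    · have := card_SS hL j.isLt
      rw [e, zero_mul] at this
      omega
    · exact e
  rcases orbit_orders j.val (lt_of_lt_of_eq j.isLt clo_nS) with h0 | h0 | h0
  · show F cert clo j.val (c.out)⁻¹ = _
    generalize (c.out)⁻¹ = k
    rw [h0, F, base, show clo.srep 0 = 0 from rfl, Cert.rep_zero, prodw_nil, one_mul, Q,
      QuotientGroup.eq, inv_inv, mul_one]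
    exact ⟨_, rfl⟩
  · exfalso
    rw [← card_SS hL j.isLt, Nat.mul_div_cancel_left _ hpos] at h0
    have := Nat.le_of_dvd (Nat.gcd_pos_of_pos_right _ (by norm_num)) (Nat.dvd_gcd hn hC)
    omega
  · exfalso
    rw [← card_SS hL j.isLt, Nat.mul_div_cancel_left _ hpos] at h0
    exact h0 (hseven.trans hn)

/-- The facts used, from the order of the group. -/
theorem toFull : Full := { toModel hL with card_G := (th_exact hL).1, lfix := lfix hL }

end

end CfsgLib.ThInvol
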