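import Cfsg.Agent.ThInvol.Count
import Cfsg.Agent.LargeExtraspecial.Simplicity
import Cfsg.Prelude.Def_Sporadic

/-!
The shape of the centraliser of `a`: an extraspecial group of order 512 with quotient the
alternating group of degree nine.
-/

set_option autoImplicit false
set_option maxRecDepth 100000

namespace CfsgLib.ThInvol

open CfsgLib.ThCert

noncomputable section

namespace Model

variable (M : Model)
include M

/-- The map onto the alternating group. -/
def chiC : Subgroup.centralizer ({g 0} : Set Cfsg.Spor.Th) →* alternatingGroup (Fin 9) :=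
  (M.toBase.chi.comp (Subgroup.inclusion (le_of_eq M.centralizer_eq))).codRestrict _ fun k => by
    rw [← M.toBase.range_chi]
    exact ⟨_, rfl⟩

theorem chiC_surjective : Function.Surjective M.chiC := by
  rintro ⟨p, hp⟩
  rw [← M.toBase.range_chi] at hp
  obtain ⟨⟨k, hk⟩, e⟩ := hp
  exact ⟨⟨k, by rw [M.centralizer_eq]; exact hk⟩, Subtype.ext e⟩

theorem ker_chiC : M.chiC.ker = qSub.subgroupOf (Subgroup.centralizer ({g 0} : Set Cfsg.Spor.Th)) := by
  ext ⟨k, hk⟩
  have h : Subgroup.inclusion (le_of_eq M.centralizer_eq) ⟨k, hk⟩ ∈ M.toBase.chi.ker ↔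
      k ∈ qSub := by
    rw [M.ker_chi, Subgroup.mem_subgroupOf]; rfl
  rw [Subgroup.mem_subgroupOf, ← h, MonoidHom.mem_ker, MonoidHom.mem_ker, ← Subtype.coe_inj]
  rfl

/-- The centraliser of `a` has the shape of the involution centraliser of the Thompson group. -/
theorem shape : ∃ z : Cfsg.Spor.Th, orderOf z = 2 ∧
    ∃ (Q : Subgroup (Subgroup.centralizer ({z} : Set Cfsg.Spor.Th))) (_ : Q.Normal),
      Nat.card Q = 2 ^ 9 ∧ Cfsg.IsExtraspecial 2 Q ∧
      Nonempty ((Subgroup.centralizer ({z} : Set Cfsg.Spor.Th)) ⧸ Q ≃* alternatingGroup (Fin 9)) := by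
  have hne : g 0 ≠ 1 := by
    rw [← qT_one, ← qT_zero]
    exact fun e => by simpa using M.toBase.qT_inj (by norm_num) (by norm_num) e
  set C := Subgroup.centralizer ({g 0} : Set Cfsg.Spor.Th) with hC
  have hle : qSub ≤ C := qSub_le.trans M.toBase.cSub_le
  have hn : (qSub.subgroupOf C).Normal := by
    rw [← M.ker_chiC]; infer_instance
  refine ⟨g 0, orderOf_eq_prime (by rw [sq, g_sq_zero]) hne, qSub.subgroupOf C, hn, ?_, ?_, ?_⟩
  · rw [Nat.card_congr (Subgroup.subgroupOfEquivOfLe hle).toEquiv, M.toBase.card_qSub]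
    norm_num
  · exact LargeExtraspecial.isExtraspecial_of_mulEquiv
      (Subgroup.subgroupOfEquivOfLe hle).symm M.toBase.isExtraspecial
  · exact ⟨(QuotientGroup.quotientMulEquivOfEq M.ker_chiC.symm).trans
      (QuotientGroup.quotientKerEquivOfSurjective M.chiC M.chiC_surjective)⟩

end Model

end

end CfsgLib.ThInvol
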