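import Cfsg.Agent.ThInvol.Spaces

/-!
Checks used for the automorphisms of the presented Thompson group.
-/

set_option autoImplicit false
set_option Elab.async false
set_option maxRecDepth 100000

namespace CfsgLib.ThInvol

open CfsgLib.CosetEnum CfsgLib.HNCert CfsgLib.ThCert

noncomputable section

/-- The map of a word on vectors. -/
def imgW (w : List ℕ) (v : ℕ) : ℕ :=
  List.rec (fun v => v) (fun x _ ih v => force (img' x v) ih) w v

theorem imgW_nil (v : ℕ) : imgW [] v = v := rfl

theorem imgW_cons (x : ℕ) (w : List ℕ) (v : ℕ) : imgW (x :: w) v = imgW w (img' x v) := by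
  show force (img' x v) (imgW w) = _
  rw [force_eq]

/-- An element of odd order acting without fixed vectors. -/
def freeWord : List ℕ := [3, 4, 5]

/-- A word acting on the spaces as a twist of it. -/
def twinWord : List ℕ := [3, 6, 9, 3, 9, 6, 4, 3, 5, 9, 5]

theorem free_moves : allR (fun v => Nat.beq v 0 || Bool.not (Nat.beq (imgW freeWord v) v)) 8 0 =
    true := by decide +kernel

theorem twin_fix : imgW twinWord 10 = 10 := by decide +kernel

theorem twin_eq : prodw (fun x => (spPerm x)⁻¹) twinWord =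
    Equiv.swap (0 : Fin 9) 1 * prodw (fun x => (spPerm x)⁻¹) freeWord * Equiv.swap (0 : Fin 9) 1 := by
  decide +kernel

theorem pin_vec : allR (fun v => Nat.ble v 1 || Bool.not
    (Nat.beq (img' 4 v) v && (Nat.beq (img' 5 v) v && Nat.beq (img' 7 v) v))) 8 0 = true := by
  decide +kernel

theorem pin_one : img' 4 1 = 1 ∧ img' 5 1 = 1 ∧ img' 7 1 = 1 := by decide +kernel

theorem lfix_vec : allR (fun v => Nat.beq v 0 || Bool.not
    (Nat.beq (img' 3 v) v && (Nat.beq (img' 4 v) v &&
      (Nat.beq (img' 5 v) v && Nat.beq (img' 7 v) v)))) 8 0 = true := by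
  decide +kernel

/-- The conjugators giving the generators from `c`. -/
def halfWord (i : ℕ) : List ℕ := (qw i).drop ((qw i).length / 2 + 1)

theorem half_ok : (List.range 8).all (fun i =>
    decide (qw (i + 1) = wi (halfWord (i + 1)) ++ 2 :: halfWord (i + 1)) &&
      (halfWord (i + 1)).all fun x => cLetters.contains x) = true := by decide +kernel

/-- The element with a prescribed pattern of commutators. -/
def dualVec (p : ℕ) : ℕ :=
  List.rec (fun acc => acc)
    (fun i _ ih acc => force (bif bit p i then Nat.xor acc (Nat.xor 255 (Nat.shiftLeft 1 i))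
      else acc) ih) (List.range 8) 0

/-- The pattern of commutators of `dualVec` is right. -/
def okDual (p : ℕ) : Bool :=
  force (Nat.mul 2 (dualVec p)) fun d => Nat.blt d 512 && (List.range 8).all fun i =>
    bif bit p i then same (qvw d ++ qw (i + 1)) (0 :: (qw (i + 1) ++ qvw d))
    else same (qvw d ++ qw (i + 1)) (qw (i + 1) ++ qvw d)

theorem dual_all : allR okDual 8 0 = true := by decide +kernel

/-- A permutation of nine points is pinned by `⟨d, e, s, t⟩`. -/
theorem nine_pin : prodw (fun x => (spPerm x)⁻¹) [3, 4, 3] 0 = 0 ∧ ∀ i : Fin 9, i ≠ 0 →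
    prodw (fun x => (spPerm x)⁻¹) [3, 4, 3] i ≠ i := by decide +kernel

theorem nine_trans : ∀ i : Fin 9, ∃ w ∈ [[], [6, 4], [7, 6, 4], [3], [5, 4], [4, 6, 4], [4],
    [5, 5, 4], [6, 6, 4]], prodw (fun x => (spPerm x)⁻¹) w 0 = i := by decide +kernel

theorem fix_points : allR (fun i => bif Nat.blt i 819 then
    (bif Nat.beq (walk [3] i) i && (Nat.beq (walk [4] i) i &&
      (Nat.beq (walk [5] i) i && Nat.beq (walk [7] i) i)) then Nat.ble i 2 else true) else true)
    10 0 = true := by decide +kernel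

theorem b_points : walk [1] 0 = 1 ∧ walk [1, 0] 0 = 2 := by decide +kernel

theorem bad_words : walk4 ([0] ++ [0] ++ [0]) 0 40 41 42 ≠ walk4 [] 0 40 41 42 ∧
    walk4 ([0, 2, 0, 2, 0, 2]) 0 40 41 42 ≠ walk4 [] 0 40 41 42 ∧
    walk4 ([0, 1] ++ [0, 1]) 0 40 41 42 ≠ walk4 [] 0 40 41 42 ∧
    walk4 ([1, 0] ++ [1, 0]) 0 40 41 42 ≠ walk4 [] 0 40 41 42 := by decide +kernel

end

end CfsgLib.ThInvol
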