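import Cfsg.Agent.ThInvol.AutA
import Cfsg.Agent.ThInvol.AutCheck

/-!
Automorphisms fixing `a` are, up to inner ones, trivial on the centraliser of `a`.
-/

set_option autoImplicit false
set_option Elab.async false
set_option maxRecDepth 100000

namespace CfsgLib.ThInvol

open CfsgLib.CosetEnum CfsgLib.HNCert CfsgLib.ThCert

noncomputable section

/-- An automorphism fixes `a` and keeps the action on the nine spaces. -/
def Keeps (M : Model) (φ : MulAut Cfsg.Spor.Th) : Prop :=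
  φ (g 0) = g 0 ∧ ∀ (k : Cfsg.Spor.Th) (hk : k ∈ cSub), ∃ hk' : φ k ∈ cSub,
    M.toBase.chi ⟨φ k, hk'⟩ = M.toBase.chi ⟨k, hk⟩

theorem exists_bits (f : Fin 8 → Bool) : ∃ p < 256, ∀ i : Fin 8, bit p i = f i :=
  ⟨Nat.ofBits f, Nat.ofBits_lt_two_pow f, fun i => by
    rw [bit_eq, Nat.testBit_ofBits_lt f i i.isLt]⟩

theorem prodw_mem_cSub : ∀ {w : List ℕ}, (∀ x ∈ w, x ∈ cLetters) → prodw g w ∈ cSub := by
  intro w
  induction w with
  | nil => intro _; rw [prodw_nil]; exact one_mem _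
  | cons y w ih =>
    intro hw
    rw [prodw_cons]
    exact mul_mem (g_mem (hw y List.mem_cons_self)) (ih fun x hx => hw x (List.mem_cons_of_mem _ hx))

namespace Base

variable (B : Base)
include B

theorem mdl_word : ∀ {w : List ℕ}, (∀ x ∈ w, x ∈ cLetters) → ∀ {y : Cfsg.Spor.Th} {v : ℕ},
    v < 256 → Mdl y v →
      imgW w v < 256 ∧ Mdl ((prodw g w)⁻¹ * y * prodw g w) (imgW w v) := by
  intro w
  induction w with
  | nil => intro _ y v hv hy; rw [imgW_nil, prodw_nil]; simpa using ⟨hv, hy⟩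
  | cons x w ih =>
    intro hw y v hv hy
    have hx := hw x List.mem_cons_self
    obtain ⟨h1, h2⟩ := ih (fun z hz => hw z (List.mem_cons_of_mem _ hz)) (img'_lt hx hv)
      (B.mdl_conj hx hv hy)
    rw [imgW_cons, prodw_cons]
    refine ⟨h1, ?_⟩
    rw [show (g x * prodw g w)⁻¹ * y * (g x * prodw g w) =
      (prodw g w)⁻¹ * ((g x)⁻¹ * y * g x) * prodw g w by group]
    exact h2

theorem mdl_qSub {k y : Cfsg.Spor.Th} {v : ℕ} (hk : k ∈ qSub) (hv : v < 256) (hy : Mdl y v) :
    Mdl (k⁻¹ * y * k) v := by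
  rcases B.com_qSub (B.mdl_mem hv hy) hk with e | e
  · rw [mul_assoc, e, inv_mul_cancel_left]; exact hy
  · have h0 := Subgroup.mem_centralizer_singleton_iff.mp (B.cSub_le (qSub_le (inv_mem hk)))
    rw [mul_assoc, e, ← mul_assoc, h0, mul_assoc, inv_mul_cancel_left]
    exact B.g_zero_mul hv hy

end Base

namespace Full

variable (F : Full)
include F

theorem same_vec {k l y : Cfsg.Spor.Th} {v w : ℕ} (hk : k ∈ cSub) (hl : l ∈ cSub)
    (h : F.toModel.toBase.chi ⟨k, hk⟩ = F.toModel.toBase.chi ⟨l, hl⟩) (hv : w < 256)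
    (hy : Mdl (l⁻¹ * y * l) v) (hy' : v = w) : Mdl (k⁻¹ * y * k) w := by
  subst hy'
  have hq : l⁻¹ * k ∈ qSub := F.toModel.mem_qSub_of_trivial (mul_mem (inv_mem hl) hk) (by
    rw [show (⟨l⁻¹ * k, mul_mem (inv_mem hl) hk⟩ : cSub) = ⟨l, hl⟩⁻¹ * ⟨k, hk⟩ from rfl, map_mul,
      map_inv, h, inv_mul_cancel])
  rw [show k⁻¹ * y * k = (l⁻¹ * k)⁻¹ * (l⁻¹ * y * l) * (l⁻¹ * k) by group]
  exact F.toModel.toBase.mdl_qSub hq hv hy

theorem conj_fix {k : Cfsg.Spor.Th} (hk : k ∈ cSub) {φ : MulAut Cfsg.Spor.Th}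
    (hφ : φ (g 0) = g 0) : (MulAut.conj k * φ) (g 0) = g 0 := by
  rw [MulAut.mul_apply, hφ, MulAut.conj_apply,
    Subgroup.mem_centralizer_singleton_iff.mp (F.toModel.toBase.cSub_le hk), mul_inv_cancel_right]

theorem chi_conj {k : cSub} {φ : MulAut Cfsg.Spor.Th} (hφ : φ (g 0) = g 0) {x : Cfsg.Spor.Th}
    (hx : x ∈ cSub) (h : (MulAut.conj (k : Cfsg.Spor.Th) * φ) x ∈ cSub) :
    F.toModel.toBase.chi ⟨_, h⟩ =
      F.toModel.toBase.chi k * F.psi hφ ⟨x, hx⟩ * (F.toModel.toBase.chi k)⁻¹ := by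
  rw [F.psi_apply hφ, ← map_inv, ← map_mul, ← map_mul]
  rfl

theorem twist_false {φ : MulAut Cfsg.Spor.Th} (hφ : φ (g 0) = g 0)
    (h : ∀ k : cSub, F.psi hφ k =
      Equiv.swap 0 1 * F.toModel.toBase.chi k * Equiv.swap 0 1) : False := by
  have hF : ∀ x ∈ freeWord, x ∈ cLetters := by decide
  have hT : ∀ x ∈ twinWord, x ∈ cLetters := by decide
  have hkF := prodw_mem_cSub hF
  have hkT := prodw_mem_cSub hT
  have e : F.toModel.toBase.chi ⟨φ (prodw g freeWord), (F.mem_cSub_iff hφ).mpr hkF⟩ =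
      F.toModel.toBase.chi ⟨prodw g twinWord, hkT⟩ := by
    have e1 : (⟨prodw g freeWord, hkF⟩ : cSub) = prodw Base.cEl freeWord :=
      Subtype.ext (Base.prodw_cEl hF).symm
    have e2 : (⟨prodw g twinWord, hkT⟩ : cSub) = prodw Base.cEl twinWord :=
      Subtype.ext (Base.prodw_cEl hT).symm
    have h1 := h ⟨prodw g freeWord, hkF⟩
    rw [F.psi_apply hφ] at h1
    rw [h1, e1, e2, F.toModel.toBase.chi_word hF, F.toModel.toBase.chi_word hT, twin_eq]
  have B := F.toModel.toBase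
  have hy : Mdl (qT (2 * 10)) 10 := Or.inl rfl
  have hw := (B.mdl_word hT (by norm_num) hy)
  rw [twin_fix] at hw
  have hfix := F.same_vec ((F.mem_cSub_iff hφ).mpr hkF) hkT e (by norm_num) hw.2 rfl
  obtain ⟨x, hx, hxe⟩ := F.exists_qSub_preimage hφ (B.mdl_mem (by norm_num) hy)
  obtain ⟨v, hv, hxv⟩ := B.mdl_exists hx
  obtain ⟨hlt, hw'⟩ := B.mdl_word hF hv hxv
  have hxx : (prodw g freeWord)⁻¹ * x * prodw g freeWord = x ∨
      (prodw g freeWord)⁻¹ * x * prodw g freeWord = g 0 * x := by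
    rw [← hxe, ← map_inv, ← map_mul, ← map_mul] at hfix
    have h0 : φ (g 0 * x) = g 0 * φ x := by rw [map_mul, hφ]
    rw [hxe] at h0
    rcases hfix with e | e
    · left; exact φ.injective (e.trans hxe.symm)
    · right
      refine φ.injective (e.trans ?_)
      rw [h0, qT_succ (by norm_num)]
  have hvv : imgW freeWord v = v := by
    rcases hxx with e | e <;> rw [e] at hw'
    · exact B.mdl_unique hlt hv hw' hxv
    · exact B.mdl_unique hlt hv hw' (B.g_zero_mul hv hxv)
  have hv0 := allR_spec 8 0 free_moves v (Nat.zero_le _) (by omega)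
  rw [hvv, show Nat.beq v v = true from Nat.beq_refl v] at hv0
  simp only [Bool.not_true, Bool.or_false] at hv0
  obtain rfl := Nat.eq_of_beq_eq_true hv0
  have : Mdl (qT (2 * 10)) 0 := by
    rw [← hxe]
    rcases hxv with e | e <;> rw [e]
    · left; rw [mul_zero, qT_zero, map_one]
    · right; rw [mul_zero, zero_add, qT_one, hφ]
  exact absurd (B.mdl_unique (by norm_num) (by norm_num) hy this) (by norm_num)

theorem exists_keeps {φ : MulAut Cfsg.Spor.Th} (hφ : φ (g 0) = g 0) :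
    ∃ k ∈ cSub, Keeps F.toModel (MulAut.conj k * φ) := by
  obtain ⟨σ, hσ⟩ := F.exists_sigma hφ
  by_cases hev : σ ∈ alternatingGroup (Fin 9)
  · obtain ⟨k, hk⟩ : σ⁻¹ ∈ F.toModel.toBase.chi.range := by
      rw [F.toModel.toBase.range_chi]; exact inv_mem hev
    refine ⟨k, k.2, F.conj_fix k.2 hφ, fun x hx => ?_⟩
    have hm := (F.mem_cSub_iff (F.conj_fix k.2 hφ)).mpr hx
    refine ⟨hm, ?_⟩
    rw [F.chi_conj hφ hx hm, hσ, hk]
    group
  · exfalso
    obtain ⟨k, hk⟩ : Equiv.swap 0 1 * σ⁻¹ ∈ F.toModel.toBase.chi.range := by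
      rw [F.toModel.toBase.range_chi, Equiv.Perm.mem_alternatingGroup, map_mul,
        Equiv.Perm.sign_swap (by decide), map_inv]
      rw [Equiv.Perm.mem_alternatingGroup] at hev
      rcases Int.units_eq_one_or (Equiv.Perm.sign σ) with h | h
      · exact absurd h hev
      · rw [h]; decide
    refine F.twist_false (F.conj_fix k.2 hφ) fun x => ?_
    rw [F.psi_apply, F.chi_conj hφ x.2, hσ, hk, mul_inv_rev, inv_inv, Equiv.swap_inv]
    group

variable {φ : MulAut Cfsg.Spor.Th} (hK : Keeps F.toModel φ)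
include hK

theorem mdl_c : ∃ y, y = φ (g 2) ∧ Mdl y 1 := by
  refine ⟨_, rfl, ?_⟩
  have B := F.toModel.toBase
  have hc : Mdl (g 2) 1 := by
    left
    have h := qT_bit (i := 1) (by norm_num)
    rw [show qw 1 = [2] by decide +kernel, prodw_cons, prodw_nil, mul_one] at h
    exact h.symm
  obtain ⟨v, hv, hm⟩ := B.mdl_exists (F.mem_qSub_map hK.1 (B.mdl_mem (by norm_num) hc))
  have key : ∀ x ∈ [4, 5, 7], img' x v = v := by
    intro x hx
    have hxl : x ∈ cLetters := by
      simp only [List.mem_cons, List.not_mem_nil, or_false, cLetters] at hx ⊢; omega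
    have h1 : img' x 1 = 1 := by
      simp only [List.mem_cons, List.not_mem_nil, or_false] at hx
      rcases hx with rfl | rfl | rfl
      exacts [pin_one.1, pin_one.2.1, pin_one.2.2]
    have hcx := B.mdl_conj hxl (by norm_num) hc
    rw [h1] at hcx
    have hφc : Mdl ((φ (g x))⁻¹ * φ (g 2) * φ (g x)) v := by
      rw [← map_inv, ← map_mul, ← map_mul]
      rcases hcx with e | e <;> rw [e]
      · rcases hc with e' | e'
        · rw [← e']; exact hm
        · rw [show qT (2 * 1) = g 0 * g 2 by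
            rw [e', qT_succ (by norm_num), ← mul_assoc, g_sq_zero, one_mul], map_mul, hK.1]
          exact B.g_zero_mul hv hm
      · rcases hc with e' | e'
        · rw [qT_succ (by norm_num), ← e', map_mul, hK.1]; exact B.g_zero_mul hv hm
        · rw [← e']; exact hm
    obtain ⟨hx', hchi⟩ := hK.2 (g x) (g_mem hxl)
    have := F.same_vec hx' (g_mem hxl) hchi (img'_lt hxl hv) (B.mdl_conj hxl hv hm) rfl
    exact B.mdl_unique (img'_lt hxl hv) hv this hφc
  have h := allR_spec 8 0 pin_vec v (Nat.zero_le _) (by omega)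
  rw [key 4 (by simp), key 5 (by simp), key 7 (by simp), show Nat.beq v v = true from Nat.beq_refl v]
    at h
  simp only [Bool.and_self, Bool.not_true, Bool.or_false] at h
  rcases Nat.le_one_iff_eq_zero_or_eq_one.mp (Nat.le_of_ble_eq_true h) with rfl | rfl
  · exfalso
    have h0 : Mdl (g 2) 0 := by
      rcases hm with e | e
      · left; rw [mul_zero, qT_zero] at e ⊢; exact φ.injective (e.trans (map_one φ).symm)
      · right; rw [mul_zero, zero_add, qT_one] at e ⊢; exact φ.injective (e.trans hK.1.symm)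
    exact absurd (B.mdl_unique (by norm_num) (by norm_num) hc h0) (by norm_num)
  · exact hm

theorem mdl_gen {i : ℕ} (hi : i < 8) :
    φ (prodw g (qw (i + 1))) = prodw g (qw (i + 1)) ∨
      φ (prodw g (qw (i + 1))) = g 0 * prodw g (qw (i + 1)) := by
  have B := F.toModel.toBase
  have h := List.all_eq_true.mp half_ok i (List.mem_range.mpr hi)
  simp only [Bool.and_eq_true, decide_eq_true_eq, List.all_eq_true] at h
  obtain ⟨he, hl⟩ := h
  have hl : ∀ x ∈ halfWord (i + 1), x ∈ cLetters := fun x hx => List.contains_iff_mem.mp (hl x hx)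
  have hl11 : ∀ x ∈ halfWord (i + 1), x < 11 := fun x hx => by
    have := hl x hx
    simp only [cLetters, List.mem_cons, List.not_mem_nil, or_false] at this
    omega
  have hW := prodw_mem_cSub hl
  have e : prodw g (qw (i + 1)) =
      (prodw g (halfWord (i + 1)))⁻¹ * g 2 * prodw g (halfWord (i + 1)) := by
    rw [he, prodw_append, g_wi hl11, prodw_cons, mul_assoc]
  obtain ⟨y, rfl, hy⟩ := F.mdl_c hK
  have hc : Mdl (g 2) 1 := by
    left
    have h := qT_bit (i := 1) (by norm_num)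
    rw [show qw 1 = [2] by decide +kernel, prodw_cons, prodw_nil, mul_one] at h
    exact h.symm
  obtain ⟨hlt, h1⟩ := B.mdl_word hl (by norm_num) hc
  obtain ⟨-, h2⟩ := B.mdl_word hl (by norm_num) hy
  obtain ⟨hW', hchi⟩ := hK.2 _ hW
  have h3 := F.same_vec hW' hW hchi hlt h2 rfl
  rw [← map_inv, ← map_mul, ← map_mul, ← e] at h3
  rw [← e] at h1
  rcases h1 with e1 | e1 <;> rcases h3 with e3 | e3
  · left; rw [e3, ← e1]
  · right; rw [e3, qT_succ hlt, ← e1]
  · right; rw [e3, e1, qT_succ hlt, ← mul_assoc, g_sq_zero, one_mul]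
  · left; rw [e3, ← e1]

theorem exists_fix_qSub : ∃ k ∈ cSub, Keeps F.toModel (MulAut.conj k * φ) ∧
    ∀ y ∈ qSub, (MulAut.conj k * φ) y = y := by
  classical
  have B := F.toModel.toBase
  obtain ⟨p, hp, hbit⟩ := exists_bits fun i : Fin 8 =>
    decide (φ (prodw g (qw (i.val + 1))) ≠ prodw g (qw (i.val + 1)))
  have h := allR_spec 8 0 dual_all p (Nat.zero_le _) (by omega)
  rw [okDual, force_eq, Bool.and_eq_true, List.all_eq_true] at h
  obtain ⟨hd, hall⟩ := h
  set d := qT (Nat.mul 2 (dualVec p)) with hdd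
  have hdq : d ∈ qSub := B.mem_qSub.mpr ⟨_, Nat.le_of_ble_eq_true hd, rfl⟩
  refine ⟨d, qSub_le hdq, ⟨F.conj_fix (qSub_le hdq) hK.1, ?_⟩, ?_⟩
  · intro k hk
    obtain ⟨hk', hchi⟩ := hK.2 k hk
    have hm := (F.mem_cSub_iff (F.conj_fix (qSub_le hdq) hK.1)).mpr hk
    refine ⟨hm, ?_⟩
    rw [F.chi_conj (k := ⟨d, qSub_le hdq⟩) hK.1 hk hm, B.chi_qSub hdq, one_mul, inv_one, mul_one,
      F.psi_apply hK.1]
    exact hchi
  have key : ∀ i < 9, (MulAut.conj d * φ) (prodw g (qw i)) = prodw g (qw i) := by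
    intro i hi
    rcases i with - | i
    · rw [show qw 0 = [0] by decide +kernel, prodw_cons, prodw_nil, mul_one]
      exact F.conj_fix (qSub_le hdq) hK.1
    have hi8 : i < 8 := by omega
    have hb := hbit ⟨i, hi8⟩
    have ha := hall i (List.mem_range.mpr hi8)
    simp only at hb
    rw [hb] at ha
    set q := prodw g (qw (i + 1)) with hq
    have hlv : ∀ x ∈ qvw (Nat.mul 2 (dualVec p)) ++ qw (i + 1), x < 9 := app_lt (qvw_lt _) (qw_lt _)
    have hrv : ∀ x ∈ qw (i + 1) ++ qvw (Nat.mul 2 (dualVec p)), x < 9 := app_lt (qw_lt _) (qvw_lt _)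
    rw [MulAut.mul_apply, MulAut.conj_apply]
    by_cases hφq : φ q = q
    · rw [show decide (φ q ≠ q) = false by simpa using hφq, cond_false] at ha
      have e := congrArg emb (eq_of_same_of B.bound hlv hrv ha)
      rw [emb_prodw hlv, emb_prodw hrv, prodw_append, prodw_append, ← emb_prodw (qvw_lt _)] at e
      rw [hφq]
      change d * q = q * d at e
      rw [e, mul_inv_cancel_right]
    · rw [show decide (φ q ≠ q) = true by simpa using hφq, cond_true] at ha
      have hrv0 : ∀ x ∈ 0 :: (qw (i + 1) ++ qvw (Nat.mul 2 (dualVec p))), x < 9 := by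
        intro x hx
        rcases List.mem_cons.mp hx with rfl | hx
        exacts [by norm_num, hrv x hx]
      have e := congrArg emb (eq_of_same_of B.bound hlv hrv0 ha)
      rw [emb_prodw hlv, emb_prodw hrv0, prodw_cons, prodw_append, prodw_append,
        ← emb_prodw (qvw_lt _)] at e
      change d * q = g 0 * (q * d) at e
      rw [(F.mdl_gen hK hi8).resolve_left hφq, ← mul_assoc d,
        Subgroup.mem_centralizer_singleton_iff.mp (B.cSub_le (qSub_le hdq)), mul_assoc (g 0), e,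
        ← mul_assoc, g_sq_zero, one_mul, mul_inv_cancel_right]
  intro y hy
  have hle : qSub ≤ MonoidHom.eqLocus (MulAut.conj d * φ).toMonoidHom (MonoidHom.id _) := by
    rw [qSub, Subgroup.closure_le]
    rintro _ ⟨i, hi, rfl⟩
    exact key i hi
  exact hle hy

theorem fix_cSub (hQ : ∀ y ∈ qSub, φ y = y) : ∀ k ∈ cSub, φ k = k := by
  have B := F.toModel.toBase
  have := B.fin
  set N : Subgroup Cfsg.Spor.Th := MonoidHom.eqLocus φ.toMonoidHom (MonoidHom.id _) with hN
  have hmemN : ∀ k, k ∈ N ↔ φ k = k := fun k => Iff.rfl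
  have hz : ∀ k ∈ cSub, φ k = k ∨ φ k = g 0 * k := by
    intro k hk
    obtain ⟨hk', -⟩ := hK.2 k hk
    have h : ∀ y ∈ qSub, y * (φ k * k⁻¹) = φ k * k⁻¹ * y := by
      intro y hy
      have hy' : k⁻¹ * y * k ∈ qSub := by
        have := F.toModel.qSub_normal (inv_mem hk) hy
        rwa [inv_inv] at this
      have h1 := hQ _ hy'
      rw [map_mul, map_mul, map_inv, hQ y hy, mul_assoc, inv_mul_eq_iff_eq_mul] at h1
      calc y * (φ k * k⁻¹) = y * φ k * k⁻¹ := (mul_assoc _ _ _).symm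
        _ = φ k * (k⁻¹ * y * k) * k⁻¹ := by rw [h1]
        _ = φ k * k⁻¹ * y := by group
    rcases F.toModel.cent_qSub (mul_mem hk' (inv_mem hk)) h with e | e
    · left; exact mul_inv_eq_one.mp e
    · right; exact mul_inv_eq_iff_eq_mul.mp e
  have halt : alternatingGroup (Fin 9) ≤ (N.subgroupOf cSub).map B.chi := by
    refine AutAlt.mem_of_basic (p := (0 : Fin 9)) (q := 1) (by decide) fun i h0 h1 => ?_
    have hi : 2 ≤ i.val := by
      rcases i with ⟨i, hi⟩
      simp only [ne_eq, Fin.ext_iff, Fin.val_zero, Fin.val_one] at h0 h1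
      show 2 ≤ i; omega
    obtain ⟨k, hk⟩ : AutAlt.cyc (0 : Fin 9) 1 i ∈ B.chi.range := by
      rw [B.range_chi]
      exact (AutAlt.cyc_isThreeCycle (by decide) (Ne.symm h0) (Ne.symm h1)).mem_alternatingGroup
    refine ⟨k, Subgroup.mem_subgroupOf.mpr ?_, hk⟩
    have h3 : (k : Cfsg.Spor.Th) ^ 3 ∈ qSub := by
      refine F.toModel.mem_qSub_of_trivial (pow_mem k.2 3) ?_
      rw [show (⟨(k : Cfsg.Spor.Th) ^ 3, pow_mem k.2 3⟩ : cSub) = k ^ 3 from rfl, map_pow, hk]
      have ho := (AutAlt.cyc_isThreeCycle (α := Fin 9) (a := 0) (b := 1) (c := i) (by decide)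
        (Ne.symm h0) (Ne.symm h1)).orderOf
      rw [← ho, pow_orderOf_eq_one]
    refine (hmemN _).mpr ((hz _ k.2).resolve_right fun e => B.g_zero_ne ?_)
    have hc : Commute (g 0) (k : Cfsg.Spor.Th) :=
      (Subgroup.mem_centralizer_singleton_iff.mp (B.cSub_le k.2)).symm
    have h4 := hQ _ h3
    rw [map_pow, e, hc.mul_pow] at h4
    have h5 : g 0 ^ 3 = g 0 := by rw [pow_succ, sq, g_sq_zero, one_mul]
    rw [h5] at h4
    exact mul_eq_right.mp h4
  intro k hk
  have hr : B.chi ⟨k, hk⟩ ∈ alternatingGroup (Fin 9) := by rw [← B.range_chi]; exact ⟨_, rfl⟩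
  obtain ⟨n, hn, e⟩ := halt hr
  have hq : (n : Cfsg.Spor.Th)⁻¹ * k ∈ qSub := by
    refine F.toModel.mem_qSub_of_trivial (mul_mem (inv_mem n.2) hk) ?_
    rw [show (⟨(n : Cfsg.Spor.Th)⁻¹ * k, mul_mem (inv_mem n.2) hk⟩ : cSub) = n⁻¹ * ⟨k, hk⟩ from rfl,
      map_mul, map_inv, e, inv_mul_cancel]
  have h := hQ _ hq
  rw [map_mul, map_inv, (hmemN _).mp (Subgroup.mem_subgroupOf.mp hn)] at h
  exact mul_left_cancel h

end Full

end

end CfsgLib.ThInvol
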