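import Cfsg.Agent.ThInvol.ACent
import Cfsg.Agent.ThInvol.AutB
import Cfsg.Prelude.Def_KGroupFacts

/-!
Every automorphism of the presented Thompson group is inner.
-/

set_option autoImplicit false
set_option Elab.async false
set_option maxRecDepth 100000

namespace CfsgLib.ThInvol

open CfsgLib.CosetEnum CfsgLib.HNCert CfsgLib.ThCert

noncomputable section

/-- The letters generating the small subgroup `⟨d, e, s, t⟩`. -/
def lLetters : List ℕ := [3, 4, 5, 7]

theorem lLetters_mem {x : ℕ} (hx : x ∈ lLetters) : x ∈ cLetters ∧ x < 9 := by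
  simp only [lLetters, List.mem_cons, List.not_mem_nil, or_false, cLetters] at hx ⊢
  omega

theorem l_comm_check : lLetters.all (fun x => same [1, x] [x, 1] && same [0, x] [x, 0]) = true := by
  decide +kernel

theorem one_zero_one : same [1, 0, 1] [0, 1, 0] = true := by decide +kernel

theorem l_comm (B : Base) {x : ℕ} (hx : x ∈ lLetters) :
    pg 1 * pg x = pg x * pg 1 ∧ pg 0 * pg x = pg x * pg 0 := by
  have h := List.all_eq_true.mp l_comm_check x hx
  rw [Bool.and_eq_true] at h
  have hx9 := (lLetters_mem hx).2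
  have e1 := eq_of_same_of B.bound (by simp [hx9]) (by simp [hx9]) h.1
  have e0 := eq_of_same_of B.bound (by simp [hx9]) (by simp [hx9]) h.2
  simp only [prodw_cons, prodw_nil, mul_one] at e1 e0
  exact ⟨e1, e0⟩

namespace Full

variable (F : Full)
include F

theorem cent_L_cSub {k : Cfsg.Spor.Th} (hk : k ∈ cSub)
    (h : ∀ x ∈ lLetters, k * g x = g x * k) : k = 1 ∨ k = g 0 := by
  have B := F.toModel.toBase
  have hp : ∀ x ∈ lLetters, B.chi ⟨k, hk⟩ * (spPerm x)⁻¹ = (spPerm x)⁻¹ * B.chi ⟨k, hk⟩ := by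
    intro x hx
    have e : B.chi (Base.cEl x) = (spPerm x)⁻¹ :=
      B.chi_eq (by rw [Base.cEl_val (lLetters_mem hx).1]; exact B.carries_letter (lLetters_mem hx).1)
    rw [← e, ← map_mul, ← map_mul]
    refine congrArg _ (Subtype.ext ?_)
    rw [Subgroup.coe_mul, Subgroup.coe_mul, Base.cEl_val (lLetters_mem hx).1]
    exact h x hx
  have hs : ∀ x : ℕ, x = 3 ∨ x = 4 ∨ x = 5 ∨ x = 7 ∨ x = 6 ∨ x = 8 →
      Commute (B.chi ⟨k, hk⟩) (spPerm x)⁻¹ := by
    have e6 : (spPerm 6)⁻¹ = ((spPerm 5)⁻¹)⁻¹ := by decide +kernel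
    have e8 : (spPerm 8)⁻¹ = ((spPerm 7)⁻¹)⁻¹ := by decide +kernel
    rintro x (rfl | rfl | rfl | rfl | rfl | rfl)
    · exact hp 3 (by decide)
    · exact hp 4 (by decide)
    · exact hp 5 (by decide)
    · exact hp 7 (by decide)
    · rw [e6]; exact Commute.inv_right (hp 5 (by decide))
    · rw [e8]; exact Commute.inv_right (hp 7 (by decide))
  have hw : ∀ w : List ℕ, (∀ x ∈ w, x = 3 ∨ x = 4 ∨ x = 5 ∨ x = 7 ∨ x = 6 ∨ x = 8) →
      Commute (B.chi ⟨k, hk⟩) (prodw (fun x => (spPerm x)⁻¹) w) := by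
    intro w
    induction w with
    | nil => intro _; rw [prodw_nil]; exact Commute.one_right _
    | cons y w ih =>
      intro hl
      rw [prodw_cons]
      exact (hs y (hl y List.mem_cons_self)).mul_right
        (ih fun x hx => hl x (List.mem_cons_of_mem _ hx))
  have h0 : B.chi ⟨k, hk⟩ 0 = 0 := by
    by_contra hne
    have hc := hw [3, 4, 3] (by simp)
    have e := Equiv.Perm.ext_iff.mp hc.eq 0
    rw [Equiv.Perm.mul_apply, Equiv.Perm.mul_apply, nine_pin.1] at e
    exact nine_pin.2 _ hne e.symm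
  have h1 : B.chi ⟨k, hk⟩ = 1 := by
    refine Equiv.ext fun i => ?_
    obtain ⟨w, hwm, rfl⟩ := nine_trans i
    have hc := hw w (by
      simp only [List.mem_cons, List.not_mem_nil, or_false] at hwm
      rcases hwm with rfl | rfl | rfl | rfl | rfl | rfl | rfl | rfl | rfl <;> simp)
    have e := Equiv.Perm.ext_iff.mp hc.eq 0
    rw [Equiv.Perm.mul_apply, Equiv.Perm.mul_apply, h0] at e
    exact e
  have hq := F.toModel.mem_qSub_of_trivial hk h1
  obtain ⟨v, hv, hm⟩ := B.mdl_exists hq
  have hfix : ∀ x ∈ lLetters, img' x v = v := by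
    intro x hx
    have := B.mdl_conj (lLetters_mem hx).1 hv hm
    rw [mul_assoc, h x hx, inv_mul_cancel_left] at this
    exact B.mdl_unique (img'_lt (lLetters_mem hx).1 hv) hv this hm
  have h := allR_spec 8 0 lfix_vec v (Nat.zero_le _) (by omega)
  rw [hfix 3 (by decide), hfix 4 (by decide), hfix 5 (by decide), hfix 7 (by decide),
    show Nat.beq v v = true from Nat.beq_refl v] at h
  simp only [Bool.and_self, Bool.not_true, Bool.or_false] at h
  obtain rfl := Nat.eq_of_beq_eq_true h
  rcases hm with e | e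
  · left; rw [e, mul_zero, qT_zero]
  · right; rw [e, mul_zero, zero_add, qT_one]

theorem image_b {φ : MulAut Cfsg.Spor.Th} (hfix : ∀ k ∈ cSub, φ k = k) :
    φ (g 1) = g 1 ∨ φ (g 1) = g 0 * g 1 * g 0 := by
  have B := F.toModel.toBase
  have hx : ∀ x ∈ lLetters, φ (g 1) * g x = g x * φ (g 1) := by
    intro x hx
    have e := congrArg emb (l_comm B hx).1
    rw [map_mul, map_mul, emb_pg (by norm_num), emb_pg (lLetters_mem hx).2] at e
    have hk := hfix _ (g_mem (lLetters_mem hx).1)
    rw [← hk, ← map_mul, ← map_mul, e]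
  have hq : ((φ (g 1) : Cfsg.Spor.Th) : Cfsg.Spor.Th ⧸ emb.range) =
      ((1 : Cfsg.Spor.Th) : Cfsg.Spor.Th ⧸ emb.range) := by
    refine F.lfix _ fun x hxl => ?_
    rw [MulAction.Quotient.smul_coe, smul_eq_mul, ← hx x hxl, QuotientGroup.eq]
    exact ⟨(pg x)⁻¹, by rw [map_inv, emb_pg (lLetters_mem hxl).2]; group⟩
  rw [QuotientGroup.eq, mul_one] at hq
  obtain ⟨p', hp'⟩ := hq
  set p : P := p'⁻¹ with hp
  have hep : emb p = φ (g 1) := by rw [hp, map_inv, hp', inv_inv]
  have hpx : ∀ x ∈ lLetters, p * pg x = pg x * p := fun x hxl => B.inj (by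
    rw [map_mul, map_mul, hep, emb_pg (lLetters_mem hxl).2]; exact hx x hxl)
  set i : Fin 819 := mv pi p (pt 0) with hi
  have hfi : ∀ x ∈ lLetters, mv pi (pg x) i = i := by
    intro x hxl
    have h0 : mv pi (pg x) (pt 0) = pt 0 :=
      fix_of_commute B.bound (l_comm B hxl).2.symm
    rw [hi, ← mv_mul, hpx x hxl, mv_mul, h0]
  have hi2 : i.val ≤ 2 := by
    have hw : ∀ x ∈ lLetters, Nat.beq (walk [x] i.val) i.val = true := by
      intro x hxl
      have e : walk [x] i.val = i.val := by
        rw [← mv_prodw (w := [x]) (by simp [(lLetters_mem hxl).2]) i, prodw_cons, prodw_nil,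
          mul_one, hfi x hxl]
      rw [e]; exact Nat.beq_refl _
    have h := allR_spec 10 0 fix_points i.val (Nat.zero_le _) (by omega)
    rw [show Nat.blt i.val 819 = true from Nat.ble_eq_true_of_le i.isLt, cond_true,
      hw 3 (by decide), hw 4 (by decide), hw 5 (by decide), hw 7 (by decide)] at h
    exact Nat.le_of_ble_eq_true h
  have main : ∀ r : P, (∀ x ∈ lLetters, r * pg x = pg x * r) → mv pi r (pt 0) = i →
      p = r ∨ p = pg 0 * r := by
    intro r hr hri
    have h0 : mv pi (p * r⁻¹) (pt 0) = pt 0 := by rw [mv_mul, ← hi, ← hri, mv_inv]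
    have hcm := commute_of_fix B.bound h0
    have hC : emb (p * r⁻¹) ∈ cSub := by
      rw [← F.toModel.centralizer_eq, Subgroup.mem_centralizer_singleton_iff,
        ← emb_pg (i := 0) (by norm_num), ← map_mul, ← map_mul, hcm]
    have hL : ∀ x ∈ lLetters, emb (p * r⁻¹) * g x = g x * emb (p * r⁻¹) := fun x hxl => by
      rw [← emb_pg (lLetters_mem hxl).2, ← map_mul, ← map_mul]
      exact congrArg emb (Commute.mul_left (hpx x hxl) (Commute.inv_left (hr x hxl))).eq
    rcases F.cent_L_cSub hC hL with e | e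
    · left; exact mul_inv_eq_one.mp (B.inj (e.trans (map_one emb).symm))
    · right; exact mul_inv_eq_iff_eq_mul.mp (B.inj (e.trans (emb_pg (by norm_num)).symm))
  have hb1 : ∀ x ∈ lLetters, prodw pg [1] * pg x = pg x * prodw pg [1] := fun x hxl => by
    simpa [prodw_cons, prodw_nil] using (l_comm B hxl).1
  have hb2 : ∀ x ∈ lLetters, prodw pg [1, 0] * pg x = pg x * prodw pg [1, 0] := fun x hxl => by
    simp only [prodw_cons, prodw_nil, mul_one]
    exact (Commute.mul_left (l_comm B hxl).1 (l_comm B hxl).2).eq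
  -- the six candidates
  have cases : p = prodw pg [] ∨ p = prodw pg [0] ∨ p = prodw pg [1] ∨ p = prodw pg [0, 1] ∨
      p = prodw pg [1, 0] ∨ p = prodw pg [0, 1, 0] := by
    simp only [prodw_cons, prodw_nil, mul_one]
    obtain h | h | h : i.val = 0 ∨ i.val = 1 ∨ i.val = 2 := by omega
    · rcases main 1 (fun x _ => by rw [one_mul, mul_one])
        (Fin.ext (by rw [mv_one, pt_val (by norm_num), h])) with e | e
      · exact Or.inl e
      · rw [mul_one] at e; exact Or.inr (Or.inl e)
    · rcases main _ hb1 (Fin.ext (by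
        rw [mv_prodw (by simp), pt_val (by norm_num), b_points.1, h])) with e | e <;>
        simp only [prodw_cons, prodw_nil, mul_one] at e
      · exact Or.inr (Or.inr (Or.inl e))
      · exact Or.inr (Or.inr (Or.inr (Or.inl e)))
    · rcases main _ hb2 (Fin.ext (by
        rw [mv_prodw (by simp), pt_val (by norm_num), b_points.2, h])) with e | e <;>
        simp only [prodw_cons, prodw_nil, mul_one] at e
      · exact Or.inr (Or.inr (Or.inr (Or.inr (Or.inl e))))
      · exact Or.inr (Or.inr (Or.inr (Or.inr (Or.inr e))))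
  have rel : ∀ w : List ℕ, (∀ x ∈ w, x < 9) → prodw g w = 1 → φ (prodw g w) = 1 :=
    fun w _ h => by rw [h, map_one]
  have ha : φ (g 0) = g 0 := hfix _ (g_mem (by decide))
  have hcfix : φ (g 2) = g 2 := hfix _ (g_mem (by decide))
  have r0101 : prodw g [0, 1, 0, 1, 0, 1] = 1 := g_rel _ (by decide)
  have r1212 : prodw g [1, 2, 1, 2, 1, 2] = 1 := g_rel _ (by decide)
  have r11 : prodw g [1, 1] = 1 := g_rel _ (by decide)
  have t1 := rel _ (by decide) r0101
  have t2 := rel _ (by decide) r1212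
  have t3 := rel _ (by decide) r11
  simp only [prodw_cons, prodw_nil, mul_one, map_mul, ha, hcfix, ← hep] at t1 t2 t3
  have lift : ∀ x, x < 9 → g x = emb (pg x) := fun x hx => (emb_pg hx).symm
  rw [lift 0 (by norm_num)] at t1
  rw [lift 2 (by norm_num)] at t2
  simp only [← map_mul] at t1 t2 t3
  have u1 := B.inj (t1.trans (map_one emb).symm)
  have u2 := B.inj (t2.trans (map_one emb).symm)
  have u3 := B.inj (t3.trans (map_one emb).symm)
  rcases cases with e | e | e | e | e | e
  · exfalso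
    rw [e] at u1
    refine bad_words.1 (sig_eq_of_eq (u := [0] ++ [0] ++ [0]) (v := []) (by decide) (by decide) ?_)
    simpa [prodw_cons, prodw_nil, mul_assoc] using u1
  · exfalso
    rw [e] at u2
    refine bad_words.2.1 (sig_eq_of_eq (v := []) (by decide) (by decide) ?_)
    simpa [prodw_cons, prodw_nil, mul_assoc] using u2
  · left; rw [← hep, e, emb_prodw (by simp)]; simp [prodw_cons, prodw_nil]
  · exfalso
    rw [e] at u3
    refine bad_words.2.2.1 (sig_eq_of_eq (v := []) (by decide) (by decide) ?_)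
    simpa [prodw_cons, prodw_nil, mul_assoc] using u3
  · exfalso
    rw [e] at u3
    refine bad_words.2.2.2 (sig_eq_of_eq (v := []) (by decide) (by decide) ?_)
    simpa [prodw_cons, prodw_nil, mul_assoc] using u3
  · right; rw [← hep, e, emb_prodw (by simp)]; simp [prodw_cons, prodw_nil, mul_assoc]

theorem eq_one_of_fix {φ : MulAut Cfsg.Spor.Th} (hfix : ∀ k ∈ cSub, φ k = k)
    (hb : φ (g 1) = g 1) : φ = 1 := by
  have h : φ.toMonoidHom = MonoidHom.id _ := by
    refine PresentedGroup.ext fun x => ?_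
    cases x
    · exact hfix _ (g_mem (i := 0) (by decide))
    · exact hb
    · exact hfix _ (g_mem (i := 2) (by decide))
    · exact hfix _ (g_mem (i := 3) (by decide))
    · exact hfix _ (g_mem (i := 4) (by decide))
    · exact hfix _ (g_mem (i := 5) (by decide))
    · exact hfix _ (g_mem (i := 7) (by decide))
    · exact hfix _ (g_mem (i := 9) (by decide))
  exact MulEquiv.ext fun y => DFunLike.congr_fun h y

/-- All automorphisms are inner. -/
theorem mem_inn (φ : MulAut Cfsg.Spor.Th) : φ ∈ Cfsg.Inn Cfsg.Spor.Th := by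
  obtain ⟨w, hw⟩ := F.exists_fix_a φ
  obtain ⟨k, hk, hkeep⟩ := F.exists_keeps hw
  obtain ⟨d, hd, hkeep', hQ⟩ := F.exists_fix_qSub hkeep
  set ψ := MulAut.conj d * (MulAut.conj k * (MulAut.conj w * φ)) with hψ
  have hC := F.fix_cSub hkeep' hQ
  have hin : ψ ∈ Cfsg.Inn Cfsg.Spor.Th := by
    rcases F.image_b hC with hb | hb
    · rw [F.eq_one_of_fix hC hb]; exact one_mem _
    · have h1 : MulAut.conj (g 0) * ψ = 1 := by
        refine F.eq_one_of_fix (fun x hx => ?_) ?_
        · rw [MulAut.mul_apply, hC x hx, MulAut.conj_apply,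
            ← Subgroup.mem_centralizer_singleton_iff.mp (F.toModel.toBase.cSub_le hx),
            mul_inv_cancel_right]
        · rw [MulAut.mul_apply, hb, MulAut.conj_apply, inv_eq_of_mul_eq_one_right g_sq_zero]
          calc g 0 * (g 0 * g 1 * g 0) * g 0 = g 0 * g 0 * g 1 * (g 0 * g 0) := by group
            _ = g 1 := by rw [g_sq_zero, one_mul, mul_one]
      rw [eq_inv_of_mul_eq_one_right h1]
      exact inv_mem ⟨_, rfl⟩
  rw [show φ = (MulAut.conj w)⁻¹ * ((MulAut.conj k)⁻¹ * ((MulAut.conj d)⁻¹ * ψ)) by rw [hψ]; group]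
  exact mul_mem (inv_mem ⟨_, rfl⟩) (mul_mem (inv_mem ⟨_, rfl⟩) (mul_mem (inv_mem ⟨_, rfl⟩) hin))

/-- The outer automorphism group is trivial. -/
theorem card_out : Nat.card (Cfsg.Out Cfsg.Spor.Th) = 1 := by
  show (Cfsg.Inn Cfsg.Spor.Th).index = 1
  rw [Subgroup.index_eq_one, Subgroup.eq_top_iff']
  exact F.mem_inn

end Full

end

end CfsgLib.ThInvol
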