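import Cfsg.Agent.ThInvol.QCheck
import Cfsg.Agent.AutAlt.Basic
import Cfsg.Agent.LargeExtraspecial.Quotient

/-!
The subgroup `⟨a, c, d, e, s, t, u⟩` of the presented Thompson group: it normalises an
extraspecial group of order 512 and permutes nine subsets of it as the alternating group.
-/

set_option autoImplicit false
set_option Elab.async false
set_option maxRecDepth 100000

namespace CfsgLib.ThInvol

open CfsgLib.CosetEnum CfsgLib.HNCert CfsgLib.ThCert

noncomputable section

theorem qw_lt (i : ℕ) : ∀ x ∈ qw i, x < 9 := dec_lt _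

/-- The facts about the presentation used here. -/
structure Base : Prop where
  bound : ABound
  pairs_lt : ∀ e ∈ uPairs, (∀ x ∈ e.1, x < 9) ∧ ∀ x ∈ e.2, x < 9
  u_conj : ∀ e ∈ uPairs, (g 9)⁻¹ * emb (prodw pg e.1) * g 9 = emb (prodw pg e.2)
  inj : Function.Injective emb
  fin : Finite Cfsg.Spor.Th

/-- The letters other than `b` and `u⁻¹`. -/
def cLetters : List ℕ := [0, 2, 3, 4, 5, 6, 7, 8, 9]

/-- The subgroup generated by the letters other than `b`. -/
def cSub : Subgroup Cfsg.Spor.Th := Subgroup.closure {x | ∃ i ∈ cLetters, g i = x}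

/-- An element of the extraspecial group. -/
def qT (v : ℕ) : Cfsg.Spor.Th := emb (qP v)

/-- The extraspecial group. -/
def qSub : Subgroup Cfsg.Spor.Th := Subgroup.closure {x | ∃ i < 9, prodw g (qw i) = x}

/-- An element has a given vector modulo the centre. -/
def Mdl (y : Cfsg.Spor.Th) (v : ℕ) : Prop := y = qT (2 * v) ∨ y = qT (2 * v + 1)

/-- The elements of a space. -/
def space (i : Fin 9) : Set Cfsg.Spor.Th := {y | ∃ v < 256, inSp i v = true ∧ Mdl y v}

theorem qT_zero : qT 0 = 1 := by rw [qT, qP_zero, map_one]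

theorem qT_one : qT 1 = g 0 := by rw [qT, qP_one, emb_pg (by norm_num)]

theorem qT_succ {v : ℕ} (hv : v < 256) : qT (2 * v + 1) = g 0 * qT (2 * v) := by
  rw [qT, qP_succ hv, map_mul, emb_pg (by norm_num), qT]

theorem qT_bit {i : ℕ} (hi : i < 9) : qT (2 ^ i) = prodw g (qw i) := by
  have h := of_decide_eq_true (List.all_eq_true.mp qw_bit i (List.mem_range.mpr hi))
  rw [qT, qP, h, emb_prodw (qw_lt i)]

theorem g_sq_zero : g 0 * g 0 = 1 := by
  have h := g_rel [0, 0] (List.mem_append_left _ (relA_sq 0 (by norm_num)))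
  simpa [prodw] using h

theorem g_mem {i : ℕ} (hi : i ∈ cLetters) : g i ∈ cSub := Subgroup.subset_closure ⟨i, hi, rfl⟩

theorem qw_mem {i : ℕ} (hi : i < 9) : prodw g (qw i) ∈ cSub := by
  have h := List.all_eq_true.mp qw_letters i (List.mem_range.mpr hi)
  have key : ∀ w : List ℕ, (∀ x ∈ w, x < 9 ∧ x ≠ 1) → prodw g w ∈ cSub := by
    intro w
    induction w with
    | nil => intro _; rw [prodw_nil]; exact one_mem _
    | cons y w ih =>
      intro hw
      rw [prodw_cons]
      obtain ⟨h1, h2⟩ := hw y List.mem_cons_self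
      refine mul_mem (g_mem ?_) (ih fun x hx => hw x (List.mem_cons_of_mem _ hx))
      simp only [cLetters, List.mem_cons, List.not_mem_nil, or_false]
      omega
  refine key _ fun x hx => ⟨dec_lt _ x hx, fun e => ?_⟩
  have := List.all_eq_true.mp h x hx
  simp [e] at this

theorem qSub_le : qSub ≤ cSub := by
  rw [qSub, Subgroup.closure_le]
  rintro _ ⟨i, hi, rfl⟩
  exact qw_mem hi

namespace Base

variable (B : Base)
include B

theorem qT_inj {v w : ℕ} (hv : v < 512) (hw : w < 512) (h : qT v = qT w) : v = w :=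
  qP_inj hv hw (B.inj h)

theorem comm_g_zero {x : ℕ} (hx : x ∈ cLetters) : g x * g 0 = g 0 * g x := by
  by_cases h9 : x = 9
  · subst h9
    have h := g_rel [10, 0, 9, 0] (List.mem_append_right _ (by decide))
    have h10 : g 10 = (g 9)⁻¹ := rfl
    simp only [prodw_cons, prodw_nil, mul_one, h10] at h
    rw [inv_mul_eq_one] at h
    calc g 9 * g 0 = g 0 * (g 9 * g 0) * g 0 := by rw [← h]
      _ = g 0 * g 9 * (g 0 * g 0) := by group
      _ = g 0 * g 9 := by rw [g_sq_zero, mul_one]
  · have hx9 : x < 9 := by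
      simp only [cLetters, List.mem_cons, List.not_mem_nil, or_false] at hx; omega
    have hx' : x ∈ [0, 2, 3, 4, 5, 6, 7, 8] := by
      simp only [cLetters, List.mem_cons, List.not_mem_nil, or_false] at hx ⊢; omega
    have hs := List.all_eq_true.mp comm_zero' x hx'
    have e := congrArg emb (eq_of_same_of B.bound (by simp [hx9]) (by simp [hx9]) hs)
    rw [emb_prodw (by simp [hx9]), emb_prodw (by simp [hx9])] at e
    simpa [prodw_cons, prodw_nil] using e.symm

theorem cSub_le : cSub ≤ Subgroup.centralizer {g 0} := by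
  rw [cSub, Subgroup.closure_le]
  rintro _ ⟨i, hi, rfl⟩
  exact Subgroup.mem_centralizer_singleton_iff.mpr (B.comm_g_zero hi)

/-- Elements of the extraspecial group. -/
theorem mem_qSub {y : Cfsg.Spor.Th} : y ∈ qSub ↔ ∃ v < 512, qT v = y := by
  have := B.fin
  constructor
  · intro hy
    refine closure_subset (S := {y | ∃ v < 512, qT v = y}) ⟨0, by norm_num, qT_zero⟩ ?_ y hy
    rintro _ ⟨v, hv, rfl⟩ _ ⟨i, hi, rfl⟩
    obtain ⟨t, ht, e⟩ := qP_mul B.bound hv hi
    exact ⟨t, ht, by rw [← emb_prodw (qw_lt i), qT, qT, ← map_mul]; exact (congrArg emb e).symm⟩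
  · rintro ⟨v, -, rfl⟩
    rw [qT, qP, emb_prodw (qvw_lt v), qvw]
    suffices h : ∀ l : List ℕ, (∀ i ∈ l, i < 9) →
        prodw g (l.flatMap fun i => bif bit v i then qw i else []) ∈ qSub from
      h _ fun i hi => List.mem_range.mp hi
    intro l
    induction l with
    | nil => intro _; rw [List.flatMap_nil, prodw_nil]; exact one_mem _
    | cons i l ih =>
      intro hl
      rw [List.flatMap_cons, prodw_append]
      refine mul_mem ?_ (ih fun j hj => hl j (List.mem_cons_of_mem _ hj))
      cases bit v i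
      · rw [cond_false, prodw_nil]; exact one_mem _
      · exact Subgroup.subset_closure ⟨i, hl i List.mem_cons_self, rfl⟩

theorem card_qSub : Nat.card qSub = 512 := by
  have e : Function.Bijective fun v : Fin 512 => (⟨qT v, B.mem_qSub.mpr ⟨v, v.isLt, rfl⟩⟩ : qSub) := by
    refine ⟨fun v w h => Fin.ext (B.qT_inj v.isLt w.isLt (congrArg Subtype.val h)), ?_⟩
    rintro ⟨y, hy⟩
    obtain ⟨v, hv, rfl⟩ := B.mem_qSub.mp hy
    exact ⟨⟨v, hv⟩, rfl⟩
  rw [← Nat.card_eq_of_bijective _ e, Nat.card_fin]

theorem g_zero_mem : g 0 ∈ qSub := B.mem_qSub.mpr ⟨1, by norm_num, qT_one⟩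

theorem mdl_exists {y : Cfsg.Spor.Th} (hy : y ∈ qSub) : ∃ v < 256, Mdl y v := by
  obtain ⟨v, hv, rfl⟩ := B.mem_qSub.mp hy
  refine ⟨v / 2, by omega, ?_⟩
  rcases Nat.mod_two_eq_zero_or_one v with h | h
  · exact Or.inl (congrArg qT (by omega))
  · exact Or.inr (congrArg qT (by omega))

theorem mdl_unique {y : Cfsg.Spor.Th} {v w : ℕ} (hv : v < 256) (hw : w < 256) (h1 : Mdl y v)
    (h2 : Mdl y w) : v = w := by
  rcases h1 with rfl | rfl <;> rcases h2 with h | h <;>
    · have := B.qT_inj (by omega) (by omega) h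
      omega

theorem g_zero_mul {y : Cfsg.Spor.Th} {v : ℕ} (hv : v < 256) (h : Mdl y v) : Mdl (g 0 * y) v := by
  rcases h with rfl | rfl
  · exact Or.inr (qT_succ hv).symm
  · left
    rw [qT_succ hv, ← mul_assoc, g_sq_zero, one_mul]

theorem mdl_mem {y : Cfsg.Spor.Th} {v : ℕ} (hv : v < 256) (h : Mdl y v) : y ∈ qSub := by
  rcases h with rfl | rfl <;> exact B.mem_qSub.mpr ⟨_, by omega, rfl⟩

theorem u_conj_prod (v : ℕ) : ∀ l : List ℕ, (∀ i ∈ l, i < 8) →
    (g 9)⁻¹ * prodw g (l.flatMap fun i => bif bit v i then qw (i + 1) else []) * g 9 =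
      prodw g (l.flatMap fun i => bif bit v i then uR i else []) := by
  intro l
  induction l with
  | nil => intro _; simp [prodw_nil]
  | cons i l ih =>
    intro hl
    rw [List.flatMap_cons, List.flatMap_cons, prodw_append, prodw_append,
      ← ih fun j hj => hl j (List.mem_cons_of_mem _ hj)]
    suffices h : (g 9)⁻¹ * prodw g (bif bit v i then qw (i + 1) else []) * g 9 =
        prodw g (bif bit v i then uR i else []) by
      rw [← h]; group
    cases bit v i
    · simp [prodw_nil]
    rw [cond_true, cond_true]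
    have h := List.all_eq_true.mp uL_all i (List.mem_range.mpr (hl i List.mem_cons_self))
    rw [Bool.and_eq_true, List.all_eq_true] at h
    obtain ⟨hs, hj⟩ := h
    have key : ∀ L : List ℕ, (∀ j ∈ L, j < uPairs.length) →
        (∀ x ∈ L.flatMap (fun j => (uPairs.getD j ([], [])).1), x < 9) ∧
        (g 9)⁻¹ * prodw g (L.flatMap fun j => (uPairs.getD j ([], [])).1) * g 9 =
          prodw g (L.flatMap fun j => (uPairs.getD j ([], [])).2) := by
      intro L
      induction L with
      | nil => intro _; simp [prodw_nil]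
      | cons j L ihL =>
        intro hL
        obtain ⟨h1, h2⟩ := ihL fun k hk => hL k (List.mem_cons_of_mem _ hk)
        have hj := hL j List.mem_cons_self
        have hp := B.pairs_lt _ (List.getElem_mem hj)
        have hc := B.u_conj _ (List.getElem_mem hj)
        rw [emb_prodw hp.1, emb_prodw hp.2] at hc
        refine ⟨?_, ?_⟩
        · intro x hx
          rw [List.flatMap_cons, List.mem_append, List.getD_eq_getElem _ _ hj] at hx
          exact hx.elim (hp.1 x) (h1 x)
        · rw [List.flatMap_cons, List.flatMap_cons, List.getD_eq_getElem _ _ hj, prodw_append,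
            prodw_append, ← h2, ← hc]
          group
    obtain ⟨h1, h2⟩ := key _ fun j hj' => Nat.le_of_ble_eq_true (hj j hj')
    have e := congrArg emb (eq_of_same_of B.bound (u := uL i) (v := qw (i + 1)) h1 (dec_lt _) hs)
    rw [emb_prodw (w := uL i) h1, emb_prodw (w := qw (i + 1)) (dec_lt _)] at e
    rw [← e]
    exact h2

/-- A letter moves vectors by its table. -/
theorem mdl_conj {x : ℕ} (hx : x ∈ cLetters) {y : Cfsg.Spor.Th} {v : ℕ} (hv : v < 256)
    (hy : Mdl y v) : Mdl ((g x)⁻¹ * y * g x) (img' x v) := by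
  have base : Mdl ((g x)⁻¹ * qT (2 * v) * g x) (img' x v) := by
    have h := conjWord_eq B.bound B.pairs_lt hx hv
    have e : emb (prodw pg (conjWord x v)) = (g x)⁻¹ * qT (2 * v) * g x := by
      by_cases h9 : x = 9
      · subst h9
        have hv2 := of_decide_eq_true (allR_spec 8 0 qvw_even v (Nat.zero_le _) (by omega))
        rw [qT, qP, emb_prodw (qvw_lt _), hv2,
          B.u_conj_prod v _ fun i hi => List.mem_range.mp hi]
        refine emb_prodw fun y hy => ?_
        obtain ⟨i, -, hi⟩ := List.mem_flatMap.mp hy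
        cases hb : bit v i <;> rw [hb] at hi
        · exact absurd hi List.not_mem_nil
        · obtain ⟨j, -, hj⟩ := List.mem_flatMap.mp hi
          by_cases hjl : j < uPairs.length
          · rw [List.getD_eq_getElem _ _ hjl] at hj
            exact (B.pairs_lt _ (List.getElem_mem hjl)).2 y hj
          · rw [List.getD_eq_default _ _ (Nat.le_of_not_lt hjl)] at hj
            exact absurd hj List.not_mem_nil
      · have hx9 : x < 9 := by
          simp only [cLetters, List.mem_cons, List.not_mem_nil, or_false] at hx; omega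
        have hb : Nat.beq x 9 = false := by
          cases hb : Nat.beq x 9
          · rfl
          · exact absurd (Nat.eq_of_beq_eq_true hb) h9
        rw [conjWord, hb, cond_false, prodw_cons, prodw_append, prodw_cons, prodw_nil, mul_one,
          map_mul, map_mul, emb_pg hx9, emb_pg (iv_lt_nine hx9), g_iv (by omega), ← mul_assoc]
        rfl
    rcases h with h | h <;> rw [← e, h]
    · exact Or.inl rfl
    · exact Or.inr rfl
  rcases hy with rfl | rfl
  · exact base
  · rw [qT_succ hv]
    have hc : (g x)⁻¹ * g 0 = g 0 * (g x)⁻¹ := (Commute.inv_left (B.comm_g_zero hx)).eq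
    rw [← mul_assoc (g x)⁻¹, hc, mul_assoc (g 0), mul_assoc (g 0)]
    exact B.g_zero_mul (img'_lt hx hv) base

theorem com_qSub {x y : Cfsg.Spor.Th} (hx : x ∈ qSub) (hy : y ∈ qSub) :
    x * y = y * x ∨ x * y = g 0 * (y * x) := by
  have := B.fin
  have hc : ∀ z ∈ qSub, g 0 * z = z * g 0 := fun z hz =>
    (Subgroup.mem_centralizer_singleton_iff.mp (B.cSub_le (qSub_le hz))).symm
  refine (closure_subset (S := {x | x ∈ qSub ∧ (x * y = y * x ∨ x * y = g 0 * (y * x))}) ?_ ?_
    x hx).2
  · exact ⟨one_mem _, Or.inl (by rw [one_mul, mul_one])⟩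
  clear! x
  rintro s ⟨hs, hsy⟩ _ ⟨i, hi, rfl⟩
  refine ⟨mul_mem hs (Subgroup.subset_closure ⟨i, hi, rfl⟩), ?_⟩
  obtain ⟨v, hv, rfl⟩ := B.mem_qSub.mp hy
  have h := allR_spec 9 0 com_all v (Nat.zero_le _) (by omega)
  rw [okCom, List.all_eq_true] at h
  have h := h i (List.mem_range.mpr hi)
  set q := prodw g (qw i) with hq
  have l0 : ∀ x ∈ [0], x < 9 := by simp
  have hqy : q * qT v = qT v * q ∨ q * qT v = g 0 * (qT v * q) := by
    rw [Bool.or_eq_true] at h
    rcases h with h | h
    · left
      have e := congrArg emb (eq_of_same_of B.bound (app_lt (dec_lt _) (qvw_lt v))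
        (app_lt (qvw_lt v) (dec_lt _)) h)
      rw [emb_prodw (app_lt (dec_lt _) (qvw_lt v)), emb_prodw (app_lt (qvw_lt v) (dec_lt _)),
        prodw_append, prodw_append] at e
      rw [qT, qP, emb_prodw (qvw_lt v)]
      exact e
    · right
      have hl : ∀ x ∈ 0 :: (qvw v ++ qw i), x < 9 := app_lt l0 (app_lt (qvw_lt v) (dec_lt _))
      have e := congrArg emb (eq_of_same_of B.bound (app_lt (dec_lt _) (qvw_lt v)) hl h)
      rw [emb_prodw (app_lt (dec_lt _) (qvw_lt v)), emb_prodw hl, prodw_cons, prodw_append,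
        prodw_append] at e
      rw [qT, qP, emb_prodw (qvw_lt v)]
      exact e
  have hs0 := hc s hs
  rcases hqy with e1 | e1 <;> rcases hsy with e2 | e2
  · left; rw [mul_assoc, e1, ← mul_assoc, e2, mul_assoc]
  · right; rw [mul_assoc, e1, ← mul_assoc, e2]; group
  · right
    rw [mul_assoc, e1, ← mul_assoc, ← hs0, mul_assoc (g 0), ← mul_assoc s, e2]
    group
  · left
    rw [mul_assoc, e1, ← mul_assoc, ← hs0, mul_assoc (g 0), ← mul_assoc s, e2,
      show g 0 * (g 0 * (qT v * s) * q) = g 0 * g 0 * (qT v * (s * q)) by group, g_sq_zero, one_mul]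

theorem isExtraspecial : Cfsg.IsExtraspecial 2 qSub := by
  have := B.fin
  have ha : orderOf (g 0) = 2 := orderOf_eq_prime (by rw [sq, g_sq_zero]) (by
    rw [← qT_one, ← qT_zero]
    exact fun e => by simpa using B.qT_inj (by norm_num) (by norm_num) e)
  refine (LargeExtraspecial.isExtraspecial_of_props (z := g 0) ?_ ha B.g_zero_mem ?_ ?_ ?_ ?_ ?_).1
  · exact IsPGroup.of_card (n := 9) (by rw [B.card_qSub]; norm_num)
  · exact fun x hx => Subgroup.mem_centralizer_singleton_iff.mp (B.cSub_le (qSub_le hx))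
  · intro x hx
    obtain ⟨v, hv, rfl⟩ := B.mem_qSub.mp hx
    have h := allR_spec 9 0 sq_all v (Nat.zero_le _) (by omega)
    rw [okSq, force_eq, Bool.or_eq_true] at h
    rw [qT, qP, ← map_mul, ← prodw_append]
    rcases h with h | h
    · left; rw [eq_of_same_of B.bound (app_lt (qvw_lt v) (qvw_lt v)) (by simp) h, prodw_nil, map_one]
    · right
      rw [eq_of_same_of B.bound (app_lt (qvw_lt v) (qvw_lt v)) (by simp) h, prodw_cons, prodw_nil,
        mul_one, emb_pg (by norm_num)]
  · intro x hx y hy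
    rcases B.com_qSub hx hy with e | e
    · left; rw [e, mul_inv_cancel_right, mul_inv_cancel]
    · right; rw [e]; group
  · intro x hx hc
    obtain ⟨v, hv, rfl⟩ := B.mem_qSub.mp hx
    have h := allR_spec 9 0 cen_all v (Nat.zero_le _) (by omega)
    rw [okCen, Bool.or_eq_true, List.any_eq_true] at h
    rcases h with h | ⟨i, hi, hn⟩
    · have h : v ≤ 1 := Nat.le_of_ble_eq_true h
      rcases Nat.le_one_iff_eq_zero_or_eq_one.mp h with rfl | rfl
      · exact Or.inl qT_zero
      · exact Or.inr qT_one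
    · exfalso
      have hi := List.mem_range.mp hi
      have e := hc _ (Subgroup.subset_closure ⟨i, hi, rfl⟩)
      rw [qT, qP, ← emb_prodw (qw_lt i), ← map_mul, ← map_mul, ← prodw_append, ← prodw_append] at e
      have := sig_eq_of_eq (app_lt (qw_lt i) (qvw_lt v)) (app_lt (qvw_lt v) (qw_lt i)) (B.inj e)
      simp [this] at hn
  · have hne : ∀ i < 9, prodw g (qw i) ∈ qSub := fun i hi => Subgroup.subset_closure ⟨i, hi, rfl⟩
    refine ⟨_, hne 1 (by norm_num), _, hne 2 (by norm_num), fun e => ?_⟩
    rw [← emb_prodw (qw_lt 1), ← emb_prodw (qw_lt 2), ← map_mul, ← map_mul, ← prodw_append,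
      ← prodw_append] at e
    have h := sig_eq_of_eq (app_lt (qw_lt 1) (qw_lt 2)) (app_lt (qw_lt 2) (qw_lt 1)) (B.inj e)
    exact absurd h sig_ne

end Base

end

end CfsgLib.ThInvol
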