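import Cfsg.Agent.ThInvol.Core

/-!
The homomorphism of `⟨a, c, d, e, s, t, u⟩` onto the alternating group of degree nine given by the
nine spaces.
-/

set_option autoImplicit false
set_option Elab.async false
set_option maxRecDepth 100000

namespace CfsgLib.ThInvol

open CfsgLib.CosetEnum CfsgLib.HNCert CfsgLib.ThCert

noncomputable section

/-- The image of a space as a point. -/
def spFin (x : ℕ) (i : Fin 9) : Fin 9 := ⟨spImg x i % 9, Nat.mod_lt _ (by norm_num)⟩

theorem spFin_inv : allR (fun x => bif Nat.blt x 10 then decide (∀ i : Fin 9,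
    spFin (ivS x) (spFin x i) = i ∧ spFin x (spFin (ivS x) i) = i) else true) 4 0 = true := by
  decide +kernel

/-- The permutation of the spaces by a letter. -/
def spPerm (x : ℕ) : Equiv.Perm (Fin 9) :=
  if hx : x < 10 then
    { toFun := spFin x
      invFun := spFin (ivS x)
      left_inv := fun i => by
        have h := allR_spec 4 0 spFin_inv x (Nat.zero_le _) (by omega)
        rw [show Nat.blt x 10 = true from Nat.ble_eq_true_of_le hx, cond_true,
          decide_eq_true_eq] at h
        exact (h i).1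
      right_inv := fun i => by
        have h := allR_spec 4 0 spFin_inv x (Nat.zero_le _) (by omega)
        rw [show Nat.blt x 10 = true from Nat.ble_eq_true_of_le hx, cond_true,
          decide_eq_true_eq] at h
        exact (h i).2 }
  else 1

theorem spaces_disjoint : allR (fun v => Nat.beq v 0 || (List.range 9).all fun i =>
    (List.range 9).all fun j => Nat.beq i j || Bool.not (inSp i v && inSp j v)) 8 0 = true := by
  decide +kernel

/-- An element of a space. -/
def spElem (i : Fin 9) : Cfsg.Spor.Th := qT (2 * spVec i)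

/-- `k` carries the spaces as `π` does. -/
def Carries (k : Cfsg.Spor.Th) (π : Equiv.Perm (Fin 9)) : Prop :=
  ∀ i, ∀ y ∈ space i, k⁻¹ * y * k ∈ space (π i)

theorem Carries.mul {k l : Cfsg.Spor.Th} {π ρ : Equiv.Perm (Fin 9)} (hk : Carries k π)
    (hl : Carries l ρ) : Carries (k * l) (ρ * π) := by
  intro i y hy
  have h := hl _ _ (hk i y hy)
  rw [show (k * l)⁻¹ * y * (k * l) = l⁻¹ * (k⁻¹ * y * k) * l by group]
  exact h

theorem spec_vec (i : Fin 9) : spVec i < 256 ∧ 1 ≤ spVec i ∧ inSp i (spVec i) = true := by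
  have h := List.all_eq_true.mp spVec_ok i (List.mem_range.mpr i.isLt)
  simp only [Bool.and_eq_true, Nat.blt_eq] at h
  exact ⟨h.1, Nat.le_of_ble_eq_true h.2.1, h.2.2.1⟩

theorem spElem_mem (i : Fin 9) : spElem i ∈ space i :=
  ⟨spVec i, (spec_vec i).1, (spec_vec i).2.2, Or.inl rfl⟩

theorem carries_one : Carries 1 1 := fun i y hy => by simpa using hy

namespace Base

variable (B : Base)
include B

theorem carries_letter {x : ℕ} (hx : x ∈ cLetters) : Carries (g x) (spPerm x) := by
  rintro i y ⟨v, hv, hvi, hy⟩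
  have h := List.all_eq_true.mp space_all x hx
  rw [okSpace, List.all_eq_true] at h
  have h := h i (List.mem_range.mpr i.isLt)
  simp only [Bool.and_eq_true] at h
  obtain ⟨hb, -, hs⟩ := h
  have hs := allR_spec 8 0 hs v (Nat.zero_le _) (by omega)
  rw [hvi, cond_true] at hs
  have hx10 : x < 10 := by
    simp only [cLetters, List.mem_cons, List.not_mem_nil, or_false] at hx; omega
  refine ⟨img' x v, img'_lt hx hv, ?_, B.mdl_conj hx hv hy⟩
  rw [spPerm, dif_pos hx10]
  show inSp (spImg x i % 9) (img' x v) = true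
  rw [Nat.mod_eq_of_lt (Nat.le_of_ble_eq_true hb)]
  exact hs

theorem exists_carries {k : Cfsg.Spor.Th} (hk : k ∈ cSub) : ∃ π, Carries k π := by
  have := B.fin
  refine closure_subset (S := {k | ∃ π, Carries k π}) ⟨1, carries_one⟩ ?_ k hk
  rintro s ⟨π, hπ⟩ _ ⟨x, hx, rfl⟩
  exact ⟨_, hπ.mul (B.carries_letter hx)⟩

theorem carries_unique {k : Cfsg.Spor.Th} (hk : k ∈ cSub) {π ρ : Equiv.Perm (Fin 9)}
    (h1 : Carries k π) (h2 : Carries k ρ) : π = ρ := by
  refine Equiv.ext fun i => ?_
  obtain ⟨w, hw, hwi, hy⟩ := h1 i _ (spElem_mem i)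
  obtain ⟨w', hw', hwi', hy'⟩ := h2 i _ (spElem_mem i)
  obtain rfl := B.mdl_unique hw hw' hy hy'
  have hw0 : w ≠ 0 := by
    rintro rfl
    have ha := Subgroup.mem_centralizer_singleton_iff.mp (B.cSub_le hk)
    have h0 : Mdl (spElem i) 0 := by
      rcases hy with e | e
      · left
        rw [mul_zero, qT_zero] at e ⊢
        have : spElem i = k * 1 * k⁻¹ := by rw [← e]; group
        rw [this]; group
      · right
        rw [mul_zero, zero_add, qT_one] at e ⊢
        have : spElem i = k * g 0 * k⁻¹ := by rw [← e]; group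
        rw [this, ha, mul_inv_cancel_right]
    have := B.mdl_unique (spec_vec i).1 (by norm_num) (Or.inl rfl) h0
    have := (spec_vec i).2.1
    omega
  have h := allR_spec 8 0 spaces_disjoint w (Nat.zero_le _) (by omega)
  rw [Bool.or_eq_true, List.all_eq_true] at h
  rcases h with h | h
  · exact absurd (Nat.eq_of_beq_eq_true h) hw0
  have h := List.all_eq_true.mp (h (π i) (List.mem_range.mpr (π i).isLt)) (ρ i)
    (List.mem_range.mpr (ρ i).isLt)
  rw [hwi, hwi', Bool.or_eq_true] at h
  rcases h with h | h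
  · exact Fin.ext (Nat.eq_of_beq_eq_true h)
  · simp at h

/-- The action on the nine spaces. -/
def chi : cSub →* Equiv.Perm (Fin 9) :=
  MonoidHom.mk' (fun k => (B.exists_carries k.2).choose⁻¹) fun k l => by
    rw [← mul_inv_rev]
    refine congrArg _ (B.carries_unique (mul_mem k.2 l.2) (B.exists_carries (k * l).2).choose_spec ?_)
    exact (B.exists_carries k.2).choose_spec.mul (B.exists_carries l.2).choose_spec

theorem chi_eq {k : cSub} {π : Equiv.Perm (Fin 9)} (h : Carries (k : Cfsg.Spor.Th) π) :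
    B.chi k = π⁻¹ :=
  congrArg (fun p : Equiv.Perm (Fin 9) => p⁻¹) (B.carries_unique k.2 (B.exists_carries k.2).choose_spec h)

theorem carries_chi (k : cSub) : Carries (k : Cfsg.Spor.Th) (B.chi k)⁻¹ := by
  show Carries _ ((B.exists_carries k.2).choose⁻¹)⁻¹
  rw [inv_inv]
  exact (B.exists_carries k.2).choose_spec

/-- A letter as an element of the subgroup. -/
def cEl (x : ℕ) : cSub :=
  if h : x ∈ cLetters then ⟨g x, g_mem h⟩ else 1

omit B in
theorem cEl_val {x : ℕ} (h : x ∈ cLetters) : (cEl x : Cfsg.Spor.Th) = g x := by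
  rw [cEl, dif_pos h]

omit B in
theorem prodw_cEl : ∀ {w : List ℕ}, (∀ x ∈ w, x ∈ cLetters) →
    ((prodw cEl w : cSub) : Cfsg.Spor.Th) = prodw g w := by
  intro w hw
  rw [show ((prodw cEl w : cSub) : Cfsg.Spor.Th) = cSub.subtype (prodw cEl w) from rfl, map_prodw]
  exact prodw_congr fun x hx => cEl_val (hw x hx)

theorem chi_word : ∀ {w : List ℕ}, (∀ x ∈ w, x ∈ cLetters) →
    B.chi (prodw cEl w) = prodw (fun x => (spPerm x)⁻¹) w := by
  intro w hw
  rw [map_prodw]
  refine prodw_congr fun x hx => B.chi_eq ?_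
  rw [cEl_val (hw x hx)]
  exact B.carries_letter (hw x hx)

theorem qSub_carries {k : Cfsg.Spor.Th} (hk : k ∈ qSub) : Carries k 1 := by
  rintro i y ⟨v, hv, hvi, hy⟩
  refine ⟨v, hv, hvi, ?_⟩
  rcases B.com_qSub (B.mdl_mem hv hy) hk with e | e
  · rw [mul_assoc, e, inv_mul_cancel_left]; exact hy
  · have h0 := Subgroup.mem_centralizer_singleton_iff.mp (B.cSub_le (qSub_le (inv_mem hk)))
    rw [mul_assoc, e, ← mul_assoc, h0, mul_assoc, inv_mul_cancel_left]
    exact B.g_zero_mul hv hy

theorem chi_qSub {k : cSub} (hk : (k : Cfsg.Spor.Th) ∈ qSub) : B.chi k = 1 := by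
  rw [B.chi_eq (B.qSub_carries hk), inv_one]

end Base

/-- The words of the three-cycles. -/
def cycWord (i : ℕ) : List ℕ :=
  [[4, 5, 8, 9, 6, 4, 3, 9, 3], [3, 5, 4, 3, 9, 3, 9, 5], [6, 4, 5, 9, 3, 5, 9, 3, 5, 8],
    [4, 3, 6, 8, 9, 3, 9, 6, 4], [8, 5, 9, 3, 5, 9, 3, 6, 4], [6, 4, 3, 7, 6, 9, 3, 5, 9],
    [3, 9, 3, 4, 9, 6, 6, 9, 5, 4]].getD i []

theorem cycWord_eq : ∀ i : Fin 7, prodw (fun x => (spPerm x)⁻¹) (cycWord i) =
    AutAlt.cyc (0 : Fin 9) 1 ⟨i + 2, by omega⟩ := by decide +kernel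

theorem cycWord_lt : (List.range 7).all (fun i => (cycWord i).all fun x => cLetters.contains x) =
    true := by decide +kernel

theorem sign_letter : ∀ x ∈ cLetters, Equiv.Perm.sign (spPerm x)⁻¹ = 1 := by decide +kernel

namespace Base

variable (B : Base)
include B

theorem range_chi : B.chi.range = alternatingGroup (Fin 9) := by
  have := B.fin
  refine le_antisymm ?_ ?_
  · rintro _ ⟨⟨k, hk⟩, rfl⟩
    have h : Subgroup.closure {x : Cfsg.Spor.Th | ∃ i ∈ cLetters, g i = x} ≤
        ((alternatingGroup (Fin 9)).comap B.chi).map cSub.subtype := by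
      rw [Subgroup.closure_le]
      rintro _ ⟨i, hi, rfl⟩
      refine ⟨cEl i, ?_, cEl_val hi⟩
      show B.chi (cEl i) ∈ alternatingGroup (Fin 9)
      rw [B.chi_eq (by rw [cEl_val hi]; exact B.carries_letter hi), Equiv.Perm.mem_alternatingGroup]
      exact sign_letter i hi
    obtain ⟨k', hk', e⟩ := h hk
    obtain rfl : k' = ⟨k, hk⟩ := Subtype.ext e
    exact hk'
  · refine AutAlt.mem_of_basic (p := (0 : Fin 9)) (q := 1) (by decide) fun i h0 h1 => ?_
    have hi : 2 ≤ i.val := by
      rcases i with ⟨i, hi⟩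
      simp only [ne_eq, Fin.ext_iff, Fin.val_zero, Fin.val_one] at h0 h1
      show 2 ≤ i; omega
    have hl := List.all_eq_true.mp cycWord_lt (i.val - 2) (List.mem_range.mpr (by omega))
    rw [List.all_eq_true] at hl
    refine ⟨prodw cEl (cycWord (i.val - 2)), ?_⟩
    rw [B.chi_word fun x hx => List.contains_iff_mem.mp (hl x hx),
      cycWord_eq ⟨i.val - 2, by omega⟩]
    congr 1
    exact Fin.ext (Nat.sub_add_cancel hi)

theorem card_range_chi : Nat.card B.chi.range = 181440 := by
  rw [B.range_chi]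
  have h := two_mul_card_alternatingGroup (α := Fin 9)
  simp only [Fintype.card_perm, Fintype.card_fin] at h
  rw [Nat.card_eq_fintype_card]
  simp only [show Nat.factorial 9 = 362880 from rfl] at h
  omega

theorem card_ker : 512 ∣ Nat.card B.chi.ker := by
  have h : qSub.subgroupOf cSub ≤ B.chi.ker := fun k hk =>
    MonoidHom.mem_ker.mpr (B.chi_qSub (Subgroup.mem_subgroupOf.mp hk))
  have := Subgroup.card_dvd_of_le h
  rwa [Nat.card_congr (Subgroup.subgroupOfEquivOfLe qSub_le).toEquiv, B.card_qSub] at this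

theorem card_cSub_dvd : 92897280 ∣ Nat.card cSub := by
  have h := B.chi.ker.index_mul_card
  rw [Subgroup.index_ker, B.card_range_chi] at h
  rw [← h]
  exact Nat.mul_dvd_mul_left 181440 B.card_ker

end Base

end

end CfsgLib.ThInvol
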