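import Cfsg.Agent.ThInvol.ACent
import Cfsg.Agent.ThInvol.Spaces

/-!
The centraliser of `a` in the presented Thompson group is `⟨a, c, d, e, s, t, u⟩`, counted by the
fixed points of `a` on the right cosets of `³D₄(2):3`.
-/

set_option autoImplicit false
set_option Elab.async false
set_option maxRecDepth 100000

namespace CfsgLib.ThInvol

open CfsgLib.CosetEnum CfsgLib.HNCert CfsgLib.ThCert

noncomputable section

/-- The facts about the action on the cosets of `³D₄(2):3` used here. -/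
structure Model : Prop extends Base where
  fix_le : Nat.card {q : Cfsg.Spor.Th ⧸ emb.range // g 0 • q = q} ≤ 10200

/-- A word carrying `a` to a conjugate outside its class in `³D₄(2):3`. -/
def gammaH : List ℕ := [1, 0, 2, 1, 3, 2, 1, 3]

/-- The last part of the word. -/
def gammaK : List ℕ := [3, 2, 1, 3, 2, 3, 4, 3, 2, 1, 0, 3, 2, 3]

/-- The carrying element. -/
def gamma : Cfsg.Spor.Th := prodw g gammaH * g 9 * (prodw g gammaK)⁻¹

theorem gamma_checks : same (wi gammaH ++ 0 :: gammaH) [1, 2, 0, 1] = true ∧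
    same (wi gammaK ++ 4 :: gammaK) [4, 1, 2, 0, 1] = true := by decide +kernel

theorem pair_zero : (([1, 2, 0, 1], [4, 1, 2, 0, 1]) : List ℕ × List ℕ) ∈ uPairs :=
  List.mem_cons_self

namespace Model

variable (M : Model)
include M

theorem gamma_conj : gamma⁻¹ * g 0 * gamma = emb (pg 4) := by
  have hB := M.bound
  have hH : ∀ x ∈ gammaH, x < 9 := by decide
  have hK : ∀ x ∈ gammaK, x < 9 := by decide
  have h0 : ∀ x ∈ (0 :: gammaH : List ℕ), x < 9 := by decide
  have h4 : ∀ x ∈ (4 :: gammaK : List ℕ), x < 9 := by decide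
  have p1 : ∀ x ∈ [1, 2, 0, 1], x < 9 := by decide
  have p2 : ∀ x ∈ [4, 1, 2, 0, 1], x < 9 := by decide
  have e1 := congrArg emb (eq_of_same_of hB (app_lt (wi_lt hH) h0) p1 gamma_checks.1)
  have e2 := congrArg emb (eq_of_same_of hB (app_lt (wi_lt hK) h4) p2 gamma_checks.2)
  have hu := M.u_conj _ pair_zero
  simp only at hu
  rw [← e1, ← e2] at hu
  rw [emb_prodw (app_lt (wi_lt hH) h0), emb_prodw (app_lt (wi_lt hK) h4), prodw_append,
    prodw_append, g_wi (fun x hx => Nat.lt_trans (hH x hx) (by norm_num)),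
    g_wi (fun x hx => Nat.lt_trans (hK x hx) (by norm_num)), prodw_cons, prodw_cons] at hu
  rw [emb_pg (by norm_num)]
  calc gamma⁻¹ * g 0 * gamma
      = prodw g gammaK * ((g 9)⁻¹ * ((prodw g gammaH)⁻¹ * (g 0 * prodw g gammaH)) * g 9) *
          (prodw g gammaK)⁻¹ := by rw [gamma]; group
    _ = g 4 := by rw [hu]; group

theorem orbit_bound {K : Subgroup Cfsg.Spor.Th} (hK : K = Subgroup.centralizer {g 0})
    (y : Cfsg.Spor.Th) (z : P) (hz : y⁻¹ * g 0 * y = emb z) :
    Nat.card K ≤ Nat.card (MulAction.orbit K (y : Cfsg.Spor.Th ⧸ emb.range)) *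
      Nat.card (Subgroup.centralizer {z}) := by
  have := M.fin
  have := M.bound.1
  set x : Cfsg.Spor.Th ⧸ emb.range := (y : Cfsg.Spor.Th ⧸ emb.range) with hx
  have h1 := (MulAction.stabilizer K x).index_mul_card
  rw [MulAction.index_stabilizer] at h1
  rw [← h1, ← Nat.card_coe_set_eq]
  refine Nat.mul_le_mul_left _ ?_
  have key : ∀ k : MulAction.stabilizer K x, ∃ p : P, emb p = y⁻¹ * ((k : K) : Cfsg.Spor.Th) * y := by
    intro k
    have e : ((k : K) : Cfsg.Spor.Th) • x = x := k.2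
    change ((k : K) : Cfsg.Spor.Th) • (y : Cfsg.Spor.Th ⧸ emb.range) =
      (y : Cfsg.Spor.Th ⧸ emb.range) at e
    rw [MulAction.Quotient.smul_coe, smul_eq_mul, QuotientGroup.eq] at e
    obtain ⟨p, hp⟩ := e
    exact ⟨p⁻¹, by rw [map_inv, hp]; group⟩
  refine Nat.card_le_card_of_injective (fun k => (⟨(key k).choose, ?_⟩ : Subgroup.centralizer {z})) ?_
  · refine Subgroup.mem_centralizer_singleton_iff.mpr (M.inj ?_)
    rw [map_mul, map_mul, (key k).choose_spec, ← hz]
    have hk : ((k : K) : Cfsg.Spor.Th) * g 0 = g 0 * ((k : K) : Cfsg.Spor.Th) :=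
      Subgroup.mem_centralizer_singleton_iff.mp (hK ▸ (k : K).2)
    calc y⁻¹ * ((k : K) : Cfsg.Spor.Th) * y * (y⁻¹ * g 0 * y)
        = y⁻¹ * (((k : K) : Cfsg.Spor.Th) * g 0) * y := by group
      _ = y⁻¹ * (g 0 * ((k : K) : Cfsg.Spor.Th)) * y := by rw [hk]
      _ = y⁻¹ * g 0 * y * (y⁻¹ * ((k : K) : Cfsg.Spor.Th) * y) := by group
  · intro k l e
    have e := congrArg (fun p : Subgroup.centralizer {z} => emb (p : P)) e
    simp only [(key k).choose_spec, (key l).choose_spec, mul_left_cancel_iff,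
      mul_right_cancel_iff] at e
    exact Subtype.ext (Subtype.ext e)

theorem card_centralizer_le :
    Nat.card (Subgroup.centralizer {g 0}) * 9080 ≤ 10200 * 92897280 := by
  classical
  have := M.fin
  set K : Subgroup Cfsg.Spor.Th := Subgroup.centralizer {g 0} with hK
  set x0 : Cfsg.Spor.Th ⧸ emb.range := ((1 : Cfsg.Spor.Th) : Cfsg.Spor.Th ⧸ emb.range) with hx0
  set x1 : Cfsg.Spor.Th ⧸ emb.range := (gamma : Cfsg.Spor.Th ⧸ emb.range) with hx1
  have b0 := M.orbit_bound hK 1 (pg 0) (by rw [inv_one, one_mul, mul_one, emb_pg (by norm_num)])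
  have b1 := M.orbit_bound hK gamma (pg 4) M.gamma_conj
  rw [← hx0] at b0
  rw [← hx1] at b1
  have c0 := card_cent_zero_le M.bound
  have c1 := card_cent_four_le M.bound
  have hfix : ∀ (y : Cfsg.Spor.Th) (z : P), y⁻¹ * g 0 * y = emb z →
      ∀ q ∈ MulAction.orbit K (y : Cfsg.Spor.Th ⧸ emb.range), g 0 • q = q := by
    rintro y z hz _ ⟨k, rfl⟩
    show g 0 • ((k : Cfsg.Spor.Th) • (y : Cfsg.Spor.Th ⧸ emb.range)) = _
    have hk : (k : Cfsg.Spor.Th) * g 0 = g 0 * (k : Cfsg.Spor.Th) :=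
      Subgroup.mem_centralizer_singleton_iff.mp k.2
    rw [smul_smul, ← hk, ← smul_smul]
    show (k : Cfsg.Spor.Th) • g 0 • (y : Cfsg.Spor.Th ⧸ emb.range) =
      (k : Cfsg.Spor.Th) • (y : Cfsg.Spor.Th ⧸ emb.range)
    refine congrArg (fun q : Cfsg.Spor.Th ⧸ emb.range => (k : Cfsg.Spor.Th) • q) ?_
    rw [MulAction.Quotient.smul_coe, smul_eq_mul, QuotientGroup.eq]
    exact ⟨z⁻¹, by rw [map_inv, ← hz]; group⟩
  have hdis : Disjoint (MulAction.orbit K x0) (MulAction.orbit K x1) := by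
    rw [Set.disjoint_iff]
    rintro q ⟨hq0, hq1⟩
    have h : x1 ∈ MulAction.orbit K x0 := by
      rw [← MulAction.orbit_eq_iff.mpr hq0, MulAction.orbit_eq_iff.mpr hq1]
      exact MulAction.mem_orbit_self _
    obtain ⟨k, hk⟩ := h
    change (k : Cfsg.Spor.Th) • x0 = x1 at hk
    rw [hx0, hx1, MulAction.Quotient.smul_coe, smul_eq_mul, mul_one, QuotientGroup.eq] at hk
    obtain ⟨p, hp⟩ := hk
    refine not_conj p (M.inj ?_)
    rw [← M.gamma_conj, map_mul, map_mul, map_inv, emb_pg (by norm_num), hp]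
    have hk : (k : Cfsg.Spor.Th) * g 0 = g 0 * (k : Cfsg.Spor.Th) :=
      Subgroup.mem_centralizer_singleton_iff.mp k.2
    calc ((k : Cfsg.Spor.Th)⁻¹ * gamma)⁻¹ * g 0 * ((k : Cfsg.Spor.Th)⁻¹ * gamma)
        = gamma⁻¹ * ((k : Cfsg.Spor.Th) * g 0) * (k : Cfsg.Spor.Th)⁻¹ * gamma := by group
      _ = gamma⁻¹ * (g 0 * (k : Cfsg.Spor.Th)) * (k : Cfsg.Spor.Th)⁻¹ * gamma := by rw [hk]
      _ = gamma⁻¹ * g 0 * gamma := by group
  have hsum : (MulAction.orbit K x0).ncard + (MulAction.orbit K x1).ncard ≤ 10200 := by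
    rw [← Set.ncard_union_eq hdis (Set.toFinite _) (Set.toFinite _)]
    refine le_trans ?_ M.fix_le
    rw [← Nat.card_coe_set_eq]
    refine Nat.card_le_card_of_injective
      (fun q => (⟨q.1, ?_⟩ : {q : Cfsg.Spor.Th ⧸ emb.range // g 0 • q = q}))
      ?inj
    case inj =>
      intro a b e
      simp only [Subtype.mk.injEq] at e
      exact Subtype.ext e
    rcases q.2 with h | h
    · exact hfix 1 (pg 0) (by rw [inv_one, one_mul, mul_one, emb_pg (by norm_num)]) _ h
    · exact hfix gamma (pg 4) M.gamma_conj _ h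
  rw [Nat.card_coe_set_eq] at b0 b1
  have d0 := b0.trans (Nat.mul_le_mul_left _ c0)
  have d1 := b1.trans (Nat.mul_le_mul_left _ c1)
  omega

/-- The centraliser of `a`. -/
theorem centralizer_eq : Subgroup.centralizer {g 0} = cSub := by
  have := M.fin
  refine (Subgroup.eq_of_le_of_card_ge M.toBase.cSub_le ?_).symm
  have h1 := M.toBase.card_cSub_dvd
  have h2 : Nat.card cSub ∣ Nat.card (Subgroup.centralizer {g 0}) :=
    Subgroup.card_dvd_of_le M.toBase.cSub_le
  have h3 := M.card_centralizer_le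
  obtain ⟨n, hn⟩ := h1.trans h2
  have hpos : 0 < Nat.card cSub := Nat.card_pos
  obtain ⟨m, hm⟩ := h1
  have : 1 ≤ m := by
    rcases Nat.eq_zero_or_pos m with rfl | h
    · omega
    · exact h
  omega

theorem card_cSub : Nat.card cSub = 92897280 := by
  have := M.fin
  have h3 := M.card_centralizer_le
  rw [M.centralizer_eq] at h3
  obtain ⟨m, hm⟩ := M.toBase.card_cSub_dvd
  have hpos : 0 < Nat.card cSub := Nat.card_pos
  omega

/-- The kernel of the action on the spaces. -/
theorem ker_chi : M.toBase.chi.ker = qSub.subgroupOf cSub := by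
  have := M.fin
  refine (Subgroup.eq_of_le_of_card_ge (fun k hk =>
    MonoidHom.mem_ker.mpr (M.toBase.chi_qSub (Subgroup.mem_subgroupOf.mp hk))) ?_).symm
  rw [Nat.card_congr (Subgroup.subgroupOfEquivOfLe qSub_le).toEquiv, M.toBase.card_qSub]
  have h := M.toBase.chi.ker.index_mul_card
  rw [Subgroup.index_ker, M.toBase.card_range_chi, M.card_cSub] at h
  omega

end Model

end

end CfsgLib.ThInvol
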