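import Cfsg.Agent.ThInvol.Word

/-!
Checks on the group of order 512 and on the nine spaces.
-/

set_option autoImplicit false
set_option Elab.async false
set_option maxRecDepth 100000

namespace CfsgLib.ThInvol

open CfsgLib.CosetEnum CfsgLib.HNCert CfsgLib.ThCert

noncomputable section

/-- Squares are `1` or the centre. -/
def okSq (v : ℕ) : Bool := force v fun v => same (qvw v ++ qvw v) [] || same (qvw v ++ qvw v) [0]

/-- Commutators with the generators are `1` or the centre. -/
def okCom (v : ℕ) : Bool := (List.range 9).all fun i =>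
  same (qw i ++ qvw v) (qvw v ++ qw i) || same (qw i ++ qvw v) (0 :: (qvw v ++ qw i))

/-- Only `1` and the centre commute with all generators. -/
def okCen (v : ℕ) : Bool := Nat.ble v 1 || (List.range 9).any fun i =>
  Bool.not (Nat.beq (walk4 (qw i ++ qvw v) 0 40 41 42) (walk4 (qvw v ++ qw i) 0 40 41 42))

theorem comm_zero' : [0, 2, 3, 4, 5, 6, 7, 8].all (fun x => same [0, x] [x, 0]) = true := by
  decide +kernel

theorem sig_ne : walk4 (qw 1 ++ qw 2) 0 40 41 42 ≠ walk4 (qw 2 ++ qw 1) 0 40 41 42 := by
  decide +kernel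

theorem sq_all : allR okSq 9 0 = true := by decide +kernel

theorem com_all : allR okCom 9 0 = true := by decide +kernel

theorem cen_all : allR okCen 9 0 = true := by decide +kernel

theorem qvw_even : allR (fun v => decide (qvw (2 * v) =
    (List.range 8).flatMap fun i => bif bit v i then qw (i + 1) else [])) 8 0 = true := by
  decide +kernel

theorem qw_bit : (List.range 9).all (fun i => decide (qvw (2 ^ i) = qw i)) = true := by
  decide +kernel

theorem qw_letters : (List.range 9).all (fun i => (qw i).all fun x => Bool.not (Nat.beq x 1)) = true := by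
  decide +kernel

/-- A vector lies in a space. -/
def inSp (i v : ℕ) : Bool := bit (Data.spaces.getD i 0) v

/-- The images of the nine spaces under the letters `0, 2, …, 9`. -/
def permTab : List (List ℕ) :=
  [[0, 1, 2, 3, 4, 5, 6, 7, 8], [0, 1, 2, 3, 4, 5, 6, 7, 8], [0, 1, 2, 3, 4, 5, 6, 7, 8],
    [3, 4, 5, 0, 1, 2, 6, 8, 7], [6, 5, 7, 3, 8, 1, 0, 2, 4], [0, 8, 7, 3, 6, 2, 1, 4, 5],
    [0, 6, 5, 3, 7, 8, 4, 2, 1], [0, 8, 1, 3, 7, 4, 6, 5, 2], [0, 2, 8, 3, 5, 7, 6, 4, 1],
    [0, 8, 2, 3, 5, 4, 6, 7, 1]]

/-- The inverse of a letter among those other than `b`, with `u` its own inverse on the spaces. -/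
def ivS (x : ℕ) : ℕ := bif Nat.beq x 9 then 9 else iv x

/-- The image of a space. -/
def spImg (x i : ℕ) : ℕ := (permTab.getD x []).getD i 0

/-- The spaces and their images. -/
def okSpace (x : ℕ) : Bool := (List.range 9).all fun i =>
  Nat.blt (spImg x i) 9 && (Nat.beq (spImg (ivS x) (spImg x i)) i &&
    allR (fun v => bif inSp i v then inSp (spImg x i) (img' x v) else true) 8 0)

theorem space_all : [0, 2, 3, 4, 5, 6, 7, 8, 9].all okSpace = true := by decide +kernel

theorem spImg_bound : allR (fun x => bif Nat.blt x 10 then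
    (List.range 9).all fun i => Nat.blt (spImg x i) 9 && Nat.beq (spImg (ivS x) (spImg x i)) i
  else true) 4 0 = true := by decide +kernel

/-- The least vector of a space. -/
def spVec (i : ℕ) : ℕ := [2, 8, 15, 1, 16, 23, 4, 30, 29].getD i 0

theorem spVec_ok : (List.range 9).all (fun i => Nat.blt (spVec i) 256 && (Nat.ble 1 (spVec i) &&
    (inSp i (spVec i) && (List.range 9).all fun j => Nat.beq i j || Bool.not (inSp j (spVec i))))) =
      true := by decide +kernel

end

end CfsgLib.ThInvol
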