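import Cfsg.Agent.ThCert.CSound
import Cfsg.Agent.ThCert.Sep
import Cfsg.Agent.ThInvol.Data

/-!
The extraspecial group of order 512 as products of nine words in `³D₄(2):3`, the map of conjugation
by the letters other than `b` on it modulo its centre, and the checks of these.
-/

set_option autoImplicit false
set_option Elab.async false
set_option maxRecDepth 100000

namespace CfsgLib.ThInvol

open CfsgLib.CosetEnum CfsgLib.HNCert CfsgLib.ThCert

noncomputable section

/-- The words of the nine generators. -/
def qw (i : ℕ) : List ℕ := dec (Data.qWord.getD i 0)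

/-- The word of an element from nine bits. -/
def qvw (v : ℕ) : List ℕ := (List.range 9).flatMap fun i => bif bit v i then qw i else []

theorem qvw_lt (v : ℕ) : ∀ x ∈ qvw v, x < 9 := by
  intro x hx
  obtain ⟨i, -, hi⟩ := List.mem_flatMap.mp hx
  cases hb : bit v i <;> rw [hb] at hi
  · exact absurd hi List.not_mem_nil
  · exact dec_lt _ x hi

/-- An element from nine bits. -/
def qP (v : ℕ) : P := prodw pg (qvw v)

/-- The position of a letter other than `b`. -/
def pos (x : ℕ) : ℕ := x - 1

/-- The map of a letter on vectors of eight bits. -/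
def img' (x v : ℕ) : ℕ :=
  List.rec (fun acc => acc)
    (fun i _ ih acc => force (bif bit v i then Nat.xor acc (Data.imgTab.getD (8 * pos x + i) 0)
      else acc) ih) (List.range 8) 0

/-- The first halves of the pairs whose product is a generator. -/
def uL (i : ℕ) : List ℕ :=
  (dec (Data.uIdx.getD i 0)).flatMap fun j => (uPairs.getD j ([], [])).1

/-- The second halves. -/
def uR (i : ℕ) : List ℕ :=
  (dec (Data.uIdx.getD i 0)).flatMap fun j => (uPairs.getD j ([], [])).2

/-- A word equal to the conjugate of an element by a letter. -/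
def conjWord (x v : ℕ) : List ℕ :=
  bif Nat.beq x 9 then (List.range 8).flatMap fun i => bif bit v i then uR i else []
  else iv x :: (qvw (Nat.mul 2 v) ++ [x])

/-- A letter acts on a vector as the table says. -/
def okConj (x v : ℕ) : Bool :=
  force (img' x v) fun t => Nat.blt t 256 &&
    force (Nat.mul 2 t) fun t => (same (conjWord x v) (qvw t) || same (conjWord x v) (qvw (Nat.succ t)))

/-- A product with a generator. -/
def okMul (v : ℕ) : Bool :=
  (List.range 9).all fun i => force (Nat.xor v (Nat.shiftLeft 1 i)) fun t =>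
    Nat.blt t 512 && (same (qvw v ++ qw i) (qvw t) ||
      force (Nat.xor t 1) fun t => Nat.blt t 512 && same (qvw v ++ qw i) (qvw t))

/-- The numbers increase strictly along the list. -/
def incr (f : ℕ → ℕ) (l : List ℕ) (lo : ℕ) : Bool :=
  List.rec (fun _ => true)
    (fun u _ ih lo => force (f u) fun s => Nat.ble lo s && ih (Nat.succ s)) l lo

theorem incr_spec (f : ℕ → ℕ) : ∀ (l : List ℕ) (lo : ℕ), incr f l lo = true →
    (l.map f).Nodup ∧ ∀ u ∈ l, lo ≤ f u
  | [], _, _ => ⟨List.nodup_nil, by simp⟩
  | u :: l, lo, h => by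
    change (force (f u) fun s => Nat.ble lo s && incr f l (Nat.succ s)) = true at h
    rw [force_eq, Bool.and_eq_true] at h
    obtain ⟨h1, h2⟩ := h
    obtain ⟨hn, hl⟩ := incr_spec f l _ h2
    have h1 : lo ≤ f u := Nat.le_of_ble_eq_true h1
    refine ⟨?_, ?_⟩
    · rw [List.map_cons, List.nodup_cons]
      refine ⟨fun hm => ?_, hn⟩
      obtain ⟨w, hw, e⟩ := List.mem_map.mp hm
      have := hl w hw
      omega
    · intro w hw
      rcases List.mem_cons.mp hw with rfl | hw
      · exact h1
      · have := hl w hw; omega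

theorem sig_eq_of_eq {u v : List ℕ} (hu : ∀ x ∈ u, x < 9) (hv : ∀ x ∈ v, x < 9)
    (h : prodw pg u = prodw pg v) : walk4 u 0 40 41 42 = walk4 v 0 40 41 42 := by
  have key : ∀ b, b < 819 → walk u b = walk v b := fun b hb => by
    rw [← pt_val hb, ← mv_prodw hu, ← mv_prodw hv, h]
  rw [walk4_eq, walk4_eq, key 0 (by norm_num), key 40 (by norm_num), key 41 (by norm_num),
    key 42 (by norm_num)]

theorem qord_incr : incr (fun v => walk4 (qvw v) 0 40 41 42) Data.qOrd 0 = true := by
  decide +kernel

theorem qord_all : allR (fun v => Data.qOrd.contains v) 9 0 = true := by decide +kernel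

theorem qP_inj {v w : ℕ} (hv : v < 512) (hw : w < 512) (h : qP v = qP w) : v = w := by
  have mem : ∀ v, v < 512 → v ∈ Data.qOrd := fun v hv =>
    List.contains_iff_mem.mp (allR_spec 9 0 qord_all v (Nat.zero_le _) (by omega))
  exact List.inj_on_of_nodup_map (incr_spec _ _ _ qord_incr).1 (mem v hv) (mem w hw)
    (sig_eq_of_eq (qvw_lt v) (qvw_lt w) h)

theorem qvw_odd : allR (fun v => decide (qvw (2 * v + 1) = 0 :: qvw (2 * v))) 8 0 = true := by
  decide +kernel

theorem qP_succ {v : ℕ} (hv : v < 256) : qP (2 * v + 1) = pg 0 * qP (2 * v) := by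
  have h := of_decide_eq_true (allR_spec 8 0 qvw_odd v (Nat.zero_le _) (by omega))
  rw [qP, h, prodw_cons, qP]

theorem qP_zero : qP 0 = 1 := by
  rw [qP, show qvw 0 = [] by decide +kernel, prodw_nil]

theorem qP_one : qP 1 = pg 0 := by
  rw [qP, show qvw 1 = [0] by decide +kernel, prodw_cons, prodw_nil, mul_one]

theorem mul_all : allR okMul 9 0 = true := by decide +kernel

theorem qP_mul (hB : ABound) {v : ℕ} (hv : v < 512) {i : ℕ} (hi : i < 9) :
    ∃ t < 512, qP v * prodw pg (qw i) = qP t := by
  have h := allR_spec 9 0 mul_all v (Nat.zero_le _) (by omega)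
  rw [okMul, List.all_eq_true] at h
  have h := h i (List.mem_range.mpr hi)
  simp only [force_eq, Bool.and_eq_true, Bool.or_eq_true] at h
  have hl : ∀ x ∈ qvw v ++ qw i, x < 9 := app_lt (qvw_lt v) (dec_lt _)
  obtain ⟨ht, hs | ⟨ht', hs⟩⟩ := h
  · exact ⟨_, Nat.le_of_ble_eq_true ht, by
      rw [qP, ← prodw_append]; exact eq_of_same_of hB hl (qvw_lt _) hs⟩
  · exact ⟨_, Nat.le_of_ble_eq_true ht', by
      rw [qP, ← prodw_append]; exact eq_of_same_of hB hl (qvw_lt _) hs⟩

theorem conj_all : [0, 2, 3, 4, 5, 6, 7, 8, 9].all (fun x => allR (okConj x) 8 0) = true := by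
  decide +kernel

theorem uL_all : (List.range 8).all (fun i => same (uL i) (qw (i + 1)) &&
    (dec (Data.uIdx.getD i 0)).all fun j => Nat.blt j uPairs.length) = true := by decide +kernel

theorem img'_lt {x v : ℕ} (hx : x ∈ [0, 2, 3, 4, 5, 6, 7, 8, 9]) (hv : v < 256) :
    img' x v < 256 := by
  have h := allR_spec 8 0 (List.all_eq_true.mp conj_all x hx) v (Nat.zero_le _) (by omega)
  rw [okConj, force_eq, Bool.and_eq_true] at h
  exact Nat.le_of_ble_eq_true h.1

theorem conjWord_eq (hB : ABound) (hU : ∀ e ∈ uPairs, (∀ x ∈ e.1, x < 9) ∧ ∀ x ∈ e.2, x < 9)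
    {x v : ℕ} (hx : x ∈ [0, 2, 3, 4, 5, 6, 7, 8, 9]) (hv : v < 256) :
    prodw pg (conjWord x v) = qP (2 * img' x v) ∨
      prodw pg (conjWord x v) = qP (2 * img' x v + 1) := by
  have h := allR_spec 8 0 (List.all_eq_true.mp conj_all x hx) v (Nat.zero_le _) (by omega)
  simp only [okConj, force_eq, Bool.and_eq_true, Bool.or_eq_true] at h
  have hl : ∀ y ∈ conjWord x v, y < 9 := by
    intro y hy
    unfold conjWord at hy
    cases h9 : Nat.beq x 9 <;> rw [h9] at hy
    · rw [cond_false] at hy
      have hx9 : x < 9 := by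
        simp only [List.mem_cons, List.not_mem_nil, or_false] at hx
        have : x ≠ 9 := fun e => by rw [e] at h9; simp at h9
        omega
      rcases List.mem_cons.mp hy with rfl | hy
      · exact iv_lt_nine hx9
      · rcases List.mem_append.mp hy with hy | hy
        · exact qvw_lt _ y hy
        · rw [List.mem_singleton.mp hy]; exact hx9
    · rw [cond_true] at hy
      obtain ⟨i, -, hi⟩ := List.mem_flatMap.mp hy
      cases hb : bit v i <;> rw [hb] at hi
      · exact absurd hi List.not_mem_nil
      · obtain ⟨j, -, hj⟩ := List.mem_flatMap.mp hi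
        by_cases hjl : j < uPairs.length
        · rw [List.getD_eq_getElem _ _ hjl] at hj
          exact (hU _ (List.getElem_mem hjl)).2 y hj
        · rw [List.getD_eq_default _ _ (Nat.le_of_not_lt hjl)] at hj
          exact absurd hj List.not_mem_nil
  exact h.2.imp (fun h => eq_of_same_of hB hl (qvw_lt _) h)
    fun h => eq_of_same_of hB hl (qvw_lt _) h

end

end CfsgLib.ThInvol
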